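import Cfsg.Agent.R2.T1.Inf.LCnt

/-!
# S5929, orbit box: counting orbits (helper2)

* `count_in` : the counting lemma inside a stable set;
* `mem_of_line` : an element mapping an `H`-line to an `H`-line belongs to (the preimage of) `H`;
* `count_orb` : `|S| |G| ≤ |H| |N|`.
-/

set_option autoImplicit false
set_option linter.unusedSectionVars false
set_option maxRecDepth 100000

namespace Cfsg.Agent.R2.T2.Orb

open Cfsg Cfsg.Lie Module
open Cfsg.Agent.R2.T1
open Cfsg.Agent.H952.F4.MaxA (rmul rone rinv)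

universe u v

section gen

variable {G : Type u} [Group G] {F V : Type*} [Field F] [AddCommGroup V] [Module F V] {ρ : Representation F G V}

/-- the counting lemma inside a stable set -/
theorem count_in [Finite G] [Finite V] (H : Subgroup G) (S N : Set V) (hN : ∀ w ∈ S, ∀ g, ρ g w ∈ N)
    (h : ∀ w ∈ S, ∀ w' ∈ S, ∀ x : G, ρ x w = w' → x ∈ H) :
    Nat.card S * Nat.card G ≤ Nat.card H * Nat.card N := by
  classical
  have := Fintype.ofFinite G
  have := Fintype.ofFinite V
  have := Fintype.ofFinite S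
  have := Fintype.ofFinite N
  have := Fintype.ofFinite H
  let f : S × G → V := fun x => ρ x.2 x.1
  have h1 : (Finset.univ : Finset (S × G)).card ≤ Nat.card H * ((Finset.univ : Finset (S × G)).image f).card := by
    refine Finset.card_le_mul_card_image _ _ fun v hv => ?_
    obtain ⟨⟨⟨w', hw'⟩, g'⟩, -, rfl⟩ := Finset.mem_image.1 hv
    rw [Nat.card_eq_fintype_card, ← Finset.card_univ]
    refine Finset.card_le_card_of_injOn (fun x => if hx : g'⁻¹ * x.2 ∈ H then (⟨g'⁻¹ * x.2, hx⟩ : H) else 1)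
      (fun _ _ => Finset.mem_coe.2 (Finset.mem_univ _)) ?_
    have key : ∀ x : S × G, f x = f (⟨w', hw'⟩, g') → g'⁻¹ * x.2 ∈ H := by
      rintro ⟨⟨w, hw⟩, g⟩ hx
      refine h w hw w' hw' _ ?_
      change ρ (g'⁻¹ * g) w = w'
      rw [rmul, show ρ g w = ρ g' w' from hx, rinv]
    rintro ⟨⟨w, hw⟩, g⟩ hx ⟨⟨w1, hw1⟩, g1⟩ hx1 he
    have e1 := (Finset.mem_filter.1 (Finset.mem_coe.1 hx)).2
    have e2 := (Finset.mem_filter.1 (Finset.mem_coe.1 hx1)).2
    have k1 : g'⁻¹ * g ∈ H := key _ e1
    have k2 : g'⁻¹ * g1 ∈ H := key _ e2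
    simp only [k1, k2, dif_pos, Subtype.mk.injEq, mul_right_inj] at he
    subst he
    have h5 : ρ g w = ρ g w1 := Eq.trans (b := ρ g' w') e1 e2.symm
    have h6 : w = w1 := by rw [← rinv ρ g w, h5, rinv]
    subst h6
    rfl
  have h2 : ((Finset.univ : Finset (S × G)).image f).card ≤ Nat.card N := by
    have h3 : ((Finset.univ : Finset (S × G)).image f) ⊆ N.toFinset := by
      intro v hv
      obtain ⟨⟨⟨w, hw⟩, g⟩, -, rfl⟩ := Finset.mem_image.1 hv
      exact Set.mem_toFinset.2 (hN w hw g)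
    have h4 := Finset.card_le_card h3
    rwa [Set.toFinset_card, ← Nat.card_eq_fintype_card] at h4
  rw [Finset.card_univ, Fintype.card_prod, ← Nat.card_eq_fintype_card, ← Nat.card_eq_fintype_card] at h1
  exact h1.trans (Nat.mul_le_mul_left _ h2)

end gen

variable {F : Type u} [Field F] {H : Subgroup ↥(chevE7.group F)}

/-- a maximal subgroup `≠ 1` is self-normalizing -/
theorem normalizer_eq (hM : IsCoatom H) (hH : H ≠ ⊥) : Subgroup.normalizer (H : Set ↥(chevE7.group F)) = H := by
  have hs : IsSimpleGroup ↥(chevE7.group F) := simpleE7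
  rcases eq_or_lt_of_le (Subgroup.le_normalizer (H := H)) with h | h
  · exact h.symm
  · exfalso
    have h1 := hM.2 _ h
    have h2 : H.Normal := Subgroup.normalizer_eq_top_iff.1 h1
    rcases hs.eq_bot_or_eq_top_of_normal H h2 with h3 | h3
    · exact hH h3
    · exact hM.1 h3

section irr

variable {M : Type v} [AddCommGroup M] [Module F M] [FiniteDimensional F M] {ρ : Representation F (Gh F) M}

theorem St_line (hM : IsCoatom H) (hρ : Irr ρ) (h1 : 1 < finrank F M) {w : M} (hw : w ≠ 0)
    (hs : ∀ g, ad F g ∈ H → ∃ c : F, ρ g w = c • w) : St ρ (Submodule.span F {w}) = H.comap (ad F) := by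
  refine St_eq hM hρ ?_ ?_ ?_
  · intro g hg v hv
    obtain ⟨a, rfl⟩ := Submodule.mem_span_singleton.1 hv
    obtain ⟨c, hc⟩ := hs g hg
    rw [map_smul, hc]
    exact Submodule.smul_mem _ _ (Submodule.smul_mem _ _ (Submodule.mem_span_singleton_self w))
  · intro h0
    exact hw (Submodule.span_singleton_eq_bot.1 h0)
  · intro h0
    have h2 : finrank F ↥(Submodule.span F {w}) = 1 := finrank_span_singleton hw
    rw [h0, finrank_top] at h2
    omega

/-- an element mapping an `H`-line to an `H`-line belongs to the preimage of `H` -/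
theorem mem_of_line (hM : IsCoatom H) (hH : H ≠ ⊥) (hρ : Irr ρ) (h1 : 1 < finrank F M) {w w' : M} (hw : w ≠ 0)
    (hw' : w' ≠ 0) (hs : ∀ g, ad F g ∈ H → ∃ c : F, ρ g w = c • w) (hs' : ∀ g, ad F g ∈ H → ∃ c : F, ρ g w' = c • w')
    {x : Gh F} {c : F} (hx : ρ x w = c • w') : ad F x ∈ H := by
  have hc : c ≠ 0 := by
    rintro rfl
    rw [zero_smul] at hx
    apply hw
    rw [← ρ_inv ρ x w, hx, map_zero]
  rw [← normalizer_eq hM hH]
  have key : ∀ g : Gh F, ad F g ∈ H → ad F (x * g * x⁻¹) ∈ H := by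
    intro g hg
    have h2 : x * g * x⁻¹ ∈ St ρ (Submodule.span F {w'}) := by
      apply mem_St_of
      intro v hv
      obtain ⟨a, rfl⟩ := Submodule.mem_span_singleton.1 hv
      obtain ⟨d, hd⟩ := hs g hg
      have h3 : ρ x⁻¹ w' = c⁻¹ • w := by
        have h4 := ρ_inv ρ x w
        rw [hx, map_smul] at h4
        rw [← h4, smul_smul, inv_mul_cancel₀ hc, one_smul]
      rw [map_smul, map_mul, map_mul, Module.End.mul_apply, Module.End.mul_apply, h3, map_smul, hd, map_smul, map_smul, hx]
      exact Submodule.smul_mem _ _ (Submodule.smul_mem _ _ (Submodule.smul_mem _ _ (Submodule.smul_mem _ _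
        (Submodule.mem_span_singleton_self w'))))
    rw [St_line hM hρ h1 hw' hs'] at h2
    exact h2
  have keyinv : ∀ g : Gh F, ad F g ∈ H → ad F (x⁻¹ * g * x) ∈ H := by
    intro g hg
    have h2 : x⁻¹ * g * x ∈ St ρ (Submodule.span F {w}) := by
      apply mem_St_of
      intro v hv
      obtain ⟨a, rfl⟩ := Submodule.mem_span_singleton.1 hv
      obtain ⟨d, hd⟩ := hs' g hg
      have h3 : ρ x⁻¹ w' = c⁻¹ • w := by
        have h4 := ρ_inv ρ x w
        rw [hx, map_smul] at h4
        rw [← h4, smul_smul, inv_mul_cancel₀ hc, one_smul]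
      rw [map_smul, map_mul, map_mul, Module.End.mul_apply, Module.End.mul_apply, hx, map_smul, hd, map_smul, map_smul, h3]
      exact Submodule.smul_mem _ _ (Submodule.smul_mem _ _ (Submodule.smul_mem _ _ (Submodule.smul_mem _ _
        (Submodule.mem_span_singleton_self w))))
    rw [St_line hM hρ h1 hw hs] at h2
    exact h2
  rw [Subgroup.mem_normalizer_iff]
  intro h
  obtain ⟨g, rfl⟩ := ad_surjective h
  constructor
  · intro hg
    have h5 := key g hg
    rwa [map_mul, map_mul, map_inv] at h5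
  · intro hg
    have h5 := keyinv (x * g * x⁻¹) (by rw [map_mul, map_mul, map_inv]; exact hg)
    have h6 : x⁻¹ * (x * g * x⁻¹) * x = g := by group
    rwa [h6] at h5

/-- **counting** -/
theorem count_orb [Finite F] (hM : IsCoatom H) (hH : H ≠ ⊥) (hρ : Irr ρ) (h1 : 1 < finrank F M) (S N : Set M)
    (hS : ∀ w ∈ S, w ≠ 0 ∧ ∀ g, ad F g ∈ H → ∃ c : F, ρ g w = c • w) (hN : ∀ w ∈ S, ∀ g, ρ g w ∈ N) :
    Nat.card S * Nat.card ↥(chevE7.group F) ≤ Nat.card ↥H * Nat.card N := by
  have hfin : Finite M := Module.finite_of_finite F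
  have hcount := count_in (ρ := ρ) (H.comap (ad F)) S N hN (by
    intro w hw w' hw' x hx
    exact mem_of_line hM hH hρ h1 (hS w hw).1 (hS w' hw').1 (hS w hw).2 (hS w' hw').2 (c := 1) (by rw [hx, one_smul]))
  have e1 := Subgroup.card_mul_index (H.comap (ad F))
  have e2 := Subgroup.card_mul_index H
  rw [Subgroup.index_comap_of_surjective H ad_surjective] at e1
  have hpos : 0 < Nat.card ↥(H.comap (ad F)) := Nat.card_pos
  have h4 : Nat.card S * H.index ≤ Nat.card N := by
    have h5 : Nat.card ↥(H.comap (ad F)) * (Nat.card S * H.index) ≤ Nat.card ↥(H.comap (ad F)) * Nat.card N := by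
      calc Nat.card ↥(H.comap (ad F)) * (Nat.card S * H.index) = Nat.card S * (Nat.card ↥(H.comap (ad F)) * H.index) := by ring
        _ = Nat.card S * Nat.card (Gh F) := by rw [e1]
        _ ≤ Nat.card ↥(H.comap (ad F)) * Nat.card N := hcount
    exact Nat.le_of_mul_le_mul_left h5 hpos
  calc Nat.card S * Nat.card ↥(chevE7.group F) = Nat.card ↥H * (Nat.card S * H.index) := by rw [← e2]; ring
    _ ≤ Nat.card ↥H * Nat.card N := Nat.mul_le_mul_left _ h4

end irr

end Cfsg.Agent.R2.T2.Orb
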