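import Mathlib

/-!
# S5929, orbit box: divisibility of dimensions (helper2)

* `dvd_finrank` : if `p(T) = 0` and all irreducible factors of `p` have degree divisible by `d`, then `d ∣ dim E`;
* `dvd_sub` : the version for stable subspaces;
* `deg8`, `deg4`, `deg13` : the polynomials which occur over the field with nine elements.
-/

set_option autoImplicit false

namespace Cfsg.Agent.R2.T2.Orb

open Module Polynomial

universe u v

section div

variable {F : Type u} [Field F]

theorem aeval_comm {E E' : Type*} [AddCommGroup E] [Module F E] [AddCommGroup E'] [Module F E'] {T : Module.End F E}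
    {T' : Module.End F E'} {f : E →ₗ[F] E'} (h : ∀ x, f (T x) = T' (f x)) (p : F[X]) (x : E) :
    f (aeval T p x) = aeval T' p (f x) := by
  have hpow : ∀ (n : ℕ) (y : E), f ((T ^ n) y) = (T' ^ n) (f y) := by
    intro n
    induction n with
    | zero => intro y; simp
    | succ n ih => intro y; rw [pow_succ, pow_succ, Module.End.mul_apply, Module.End.mul_apply, ih, h]
  induction p using Polynomial.induction_on' with
  | add p q hp hq => rw [map_add, map_add, LinearMap.add_apply, LinearMap.add_apply, map_add, hp, hq]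
  | monomial n a =>
    rw [aeval_monomial, aeval_monomial, Module.End.mul_apply, Module.End.mul_apply, Module.algebraMap_end_apply,
      Module.algebraMap_end_apply, map_smul, hpow]

/-- the map `p ↦ p(T) x` -/
noncomputable def cyc {E : Type*} [AddCommGroup E] [Module F E] (T : Module.End F E) (x : E) : F[X] →ₗ[F] E :=
  (LinearMap.applyₗ x).comp (aeval T).toLinearMap

theorem cyc_apply {E : Type*} [AddCommGroup E] [Module F E] (T : Module.End F E) (x : E) (p : F[X]) :
    cyc T x p = aeval T p x := rfl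

theorem dvd_of_aeval {E : Type*} [AddCommGroup E] [Module F E] {T : Module.End F E} {x : E} (hx : x ≠ 0) {q p : F[X]}
    (hq : Irreducible q) (h : aeval T q x = 0) (hp : aeval T p x = 0) : q ∣ p := by
  by_contra hn
  obtain ⟨a, b, hab⟩ := (Irreducible.coprime_iff_not_dvd hq).2 hn
  apply hx
  have h1 : aeval T (a * q + b * p) x = x := by rw [hab, map_one, Module.End.one_apply]
  rw [← h1, map_add, map_mul, map_mul, LinearMap.add_apply, Module.End.mul_apply, Module.End.mul_apply, h, hp,
    map_zero, map_zero, add_zero]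

theorem finrank_cyc {E : Type*} [AddCommGroup E] [Module F E] {T : Module.End F E} {x : E} (hx : x ≠ 0) {q : F[X]}
    (hq : Irreducible q) (h : aeval T q x = 0) : finrank F (LinearMap.range (cyc T x)) = q.natDegree := by
  have hker : LinearMap.ker (cyc T x) = (Ideal.span {q}).restrictScalars F := by
    ext p
    rw [LinearMap.mem_ker, cyc_apply]
    constructor
    · intro hp
      exact Ideal.mem_span_singleton.2 (dvd_of_aeval hx hq h hp)
    · intro hp
      obtain ⟨r, rfl⟩ := Ideal.mem_span_singleton.1 hp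
      rw [mul_comm, map_mul, Module.End.mul_apply, h, map_zero]
  have e1 := (cyc T x).quotKerEquivRange.finrank_eq
  rw [← e1, hker]
  rw [(Submodule.Quotient.restrictScalarsEquiv F (Ideal.span {q})).finrank_eq]
  exact finrank_quotient_span_eq_natDegree

theorem exists_factor {E : Type*} [AddCommGroup E] [Module F E] [FiniteDimensional F E] [Nontrivial E]
    {T : Module.End F E} {p : F[X]} (hp : aeval T p = 0) : ∃ (q : F[X]) (x : E), q.Monic ∧ Irreducible q ∧ q ∣ p ∧
      x ≠ 0 ∧ aeval T q x = 0 := by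
  have hint : IsIntegral F T := Algebra.IsIntegral.isIntegral T
  obtain ⟨q, hqm, hqi, hqd⟩ := Polynomial.exists_monic_irreducible_factor (minpoly F T) (minpoly.not_isUnit F T)
  obtain ⟨r, hr⟩ := hqd
  have hr0 : r ≠ 0 := by
    rintro rfl
    rw [mul_zero] at hr
    exact minpoly.ne_zero hint hr
  have h1 : aeval T r ≠ 0 := by
    intro h0
    have h2 := Polynomial.natDegree_le_of_dvd (minpoly.dvd F T h0) hr0
    rw [hr, Polynomial.natDegree_mul hqi.ne_zero hr0] at h2
    have h3 := hqi.natDegree_pos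
    omega
  obtain ⟨y, hy⟩ : ∃ y, aeval T r y ≠ 0 := by
    by_contra hn
    push Not at hn
    exact h1 (LinearMap.ext hn)
  refine ⟨q, aeval T r y, hqm, hqi, (Dvd.intro _ hr.symm).trans (minpoly.dvd F T hp), hy, ?_⟩
  rw [← Module.End.mul_apply, ← map_mul, ← hr, minpoly.aeval, LinearMap.zero_apply]

/-- **divisibility of the dimension** -/
theorem dvd_finrank_aux {d : ℕ} {p : F[X]} (hp : ∀ q : F[X], q.Monic → Irreducible q → q ∣ p → d ∣ q.natDegree) :
    ∀ (n : ℕ) (E : Type v) [AddCommGroup E] [Module F E] [FiniteDimensional F E] (T : Module.End F E),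
      aeval T p = 0 → finrank F E = n → d ∣ finrank F E := by
  intro n
  induction n using Nat.strong_induction_on with
  | _ n ih =>
    intro E _ _ _ T hT hn
    rcases Nat.eq_zero_or_pos n with h0 | h0
    · rw [hn, h0]; exact dvd_zero _
    have hnt : Nontrivial E := Module.finrank_pos_iff.1 (by rw [hn]; exact h0)
    obtain ⟨q, x, hqm, hqi, hqp, hx, hqx⟩ := exists_factor hT
    set K := LinearMap.range (cyc T x) with hK
    have hfK : finrank F K = q.natDegree := finrank_cyc hx hqi hqx
    have hst : K ≤ K.comap T := by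
      rintro _ ⟨p', rfl⟩
      refine ⟨X * p', ?_⟩
      rw [cyc_apply, cyc_apply, map_mul, aeval_X, Module.End.mul_apply]
    have h2 : finrank F (E ⧸ K) + finrank F K = finrank F E := Submodule.finrank_quotient_add_finrank K
    have h3 := hqi.natDegree_pos
    have h4 := ih (finrank F (E ⧸ K)) (by omega) (E ⧸ K) (K.mapQ K T hst) (by
      refine LinearMap.ext fun y => ?_
      obtain ⟨y, rfl⟩ := K.mkQ_surjective y
      rw [← aeval_comm (T := T) (f := K.mkQ) (fun z => rfl), hT, LinearMap.zero_apply, map_zero,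
        LinearMap.zero_apply]) rfl
    rw [← h2, hfK]
    exact dvd_add h4 (hp q hqm hqi hqp)

theorem dvd_finrank {d : ℕ} {p : F[X]} (hp : ∀ q : F[X], q.Monic → Irreducible q → q ∣ p → d ∣ q.natDegree)
    {E : Type v} [AddCommGroup E] [Module F E] [FiniteDimensional F E] {T : Module.End F E} (hT : aeval T p = 0) :
    d ∣ finrank F E := dvd_finrank_aux hp _ E T hT rfl

/-- the version for stable subspaces -/
theorem dvd_sub {d : ℕ} {p : F[X]} (hp : ∀ q : F[X], q.Monic → Irreducible q → q ∣ p → d ∣ q.natDegree)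
    {E : Type v} [AddCommGroup E] [Module F E] [FiniteDimensional F E] {T : Module.End F E} {W : Submodule F E}
    (hW : ∀ w ∈ W, T w ∈ W) (hT : ∀ w ∈ W, aeval T p w = 0) : d ∣ finrank F W := by
  refine dvd_finrank hp (T := T.restrict hW) ?_
  refine LinearMap.ext fun w => ?_
  apply Subtype.ext
  have h := aeval_comm (T := T.restrict hW) (T' := T) (f := W.subtype) (fun z => rfl) p w
  rw [Submodule.subtype_apply, Submodule.subtype_apply, hT _ w.2] at h
  rw [h]; rfl

end div

section deg

variable {F : Type u} [Field F] [Finite F]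

theorem card_adj {q : F[X]} (hq : Irreducible q) : Nat.card (AdjoinRoot q) = Nat.card F ^ q.natDegree ∧
    Finite (AdjoinRoot q) := by
  have : Fact (Irreducible q) := ⟨hq⟩
  have hpb := AdjoinRoot.powerBasis hq.ne_zero
  have : FiniteDimensional F (AdjoinRoot q) := (AdjoinRoot.powerBasis hq.ne_zero).finite
  have h1 : finrank F (AdjoinRoot q) = q.natDegree := by
    rw [(AdjoinRoot.powerBasis hq.ne_zero).finrank, AdjoinRoot.powerBasis_dim]
  refine ⟨?_, Module.finite_of_finite F⟩
  rw [Module.natCard_eq_pow_finrank (K := F), h1]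

theorem pow_card_sub {K : Type*} [Field K] [Finite K] {x : K} (hx : x ≠ 0) : x ^ (Nat.card K - 1) = 1 := by
  have := Fintype.ofFinite K
  rw [Nat.card_eq_fintype_card]
  exact FiniteField.pow_card_sub_one_eq_one x hx

theorem nine_mod (n k : ℕ) (m d : ℕ) (hd : orderOf (9 : ZMod n) = d) (hk : n ∣ 9 ^ m - 1) (_ : k = k) : d ∣ m := by
  rw [← hd]
  apply orderOf_dvd_of_pow_eq_one
  have h1 : ((9 ^ m - 1 : ℕ) : ZMod n) = 0 := (ZMod.natCast_eq_zero_iff _ _).2 hk
  rw [Nat.cast_sub (Nat.one_le_pow _ _ (by norm_num)), Nat.cast_pow, Nat.cast_one, sub_eq_zero] at h1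
  exact_mod_cast h1

theorem ord64 : orderOf (9 : ZMod 64) = 8 := by
  have h : orderOf (9 : ZMod 64) = 2 ^ (2 + 1) := orderOf_eq_prime_pow (by decide) (by decide)
  exact h

theorem ord32 : orderOf (9 : ZMod 32) = 4 := by
  have h : orderOf (9 : ZMod 32) = 2 ^ (1 + 1) := orderOf_eq_prime_pow (by decide) (by decide)
  exact h

/-- `X ^ 8 - l` with `l` of order 8 over the field with nine elements -/
theorem deg8 (hF : Nat.card F = 9) (h2 : (2 : F) ≠ 0) {l : F} (hl : l ^ 4 = -1) {q : F[X]} (hq : Irreducible q)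
    (hd : q ∣ X ^ 8 - C l) : 8 ∣ q.natDegree := by
  have : Fact (Irreducible q) := ⟨hq⟩
  obtain ⟨hc, hfin⟩ := card_adj hq
  obtain ⟨r, hr⟩ := hd
  have h1 : (AdjoinRoot.root q) ^ 8 = algebraMap F (AdjoinRoot q) l := by
    have h3 : aeval (AdjoinRoot.root q) (X ^ 8 - C l) = 0 := by
      rw [hr, map_mul, aeval_def, AdjoinRoot.algebraMap_eq, AdjoinRoot.eval₂_root, zero_mul]
    rw [map_sub, map_pow, aeval_X, aeval_C, sub_eq_zero] at h3
    exact h3
  set w := AdjoinRoot.root q with hw
  have h2' : (2 : AdjoinRoot q) ≠ 0 := by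
    intro h0
    apply h2
    apply (algebraMap F (AdjoinRoot q)).injective
    rw [map_ofNat, h0, map_zero]
  have h32 : w ^ 32 = -1 := by
    calc w ^ 32 = (w ^ 8) ^ 4 := by ring
      _ = algebraMap F (AdjoinRoot q) (l ^ 4) := by rw [h1, map_pow]
      _ = -1 := by rw [hl, map_neg, map_one]
  have h64 : w ^ 64 = 1 := by
    calc w ^ 64 = (w ^ 32) ^ 2 := by ring
      _ = 1 := by rw [h32]; ring
  have ho : orderOf w = 2 ^ (5 + 1) := orderOf_eq_prime_pow (by
    intro h0
    apply h2'
    have h5 : w ^ 32 = 1 := h0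
    rw [h32] at h5
    linear_combination -h5) h64
  have hw0 : w ≠ 0 := by
    intro h0
    rw [h0, zero_pow (by norm_num)] at h64
    exact zero_ne_one h64
  have h6 := orderOf_dvd_of_pow_eq_one (pow_card_sub hw0)
  rw [ho, hc, hF] at h6
  exact nine_mod 64 0 _ 8 ord64 h6 rfl

/-- `X ^ 4 - m` with `m` of order 8 over the field with nine elements -/
theorem deg4 (hF : Nat.card F = 9) (h2 : (2 : F) ≠ 0) {l : F} (hl : l ^ 4 = -1) {q : F[X]} (hq : Irreducible q)
    (hd : q ∣ X ^ 4 - C l) : 4 ∣ q.natDegree := by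
  have : Fact (Irreducible q) := ⟨hq⟩
  obtain ⟨hc, hfin⟩ := card_adj hq
  obtain ⟨r, hr⟩ := hd
  have h1 : (AdjoinRoot.root q) ^ 4 = algebraMap F (AdjoinRoot q) l := by
    have h3 : aeval (AdjoinRoot.root q) (X ^ 4 - C l) = 0 := by
      rw [hr, map_mul, aeval_def, AdjoinRoot.algebraMap_eq, AdjoinRoot.eval₂_root, zero_mul]
    rw [map_sub, map_pow, aeval_X, aeval_C, sub_eq_zero] at h3
    exact h3
  set w := AdjoinRoot.root q with hw
  have h2' : (2 : AdjoinRoot q) ≠ 0 := by
    intro h0
    apply h2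
    apply (algebraMap F (AdjoinRoot q)).injective
    rw [map_ofNat, h0, map_zero]
  have h16 : w ^ 16 = -1 := by
    calc w ^ 16 = (w ^ 4) ^ 4 := by ring
      _ = algebraMap F (AdjoinRoot q) (l ^ 4) := by rw [h1, map_pow]
      _ = -1 := by rw [hl, map_neg, map_one]
  have h32 : w ^ 32 = 1 := by
    calc w ^ 32 = (w ^ 16) ^ 2 := by ring
      _ = 1 := by rw [h16]; ring
  have ho : orderOf w = 2 ^ (4 + 1) := orderOf_eq_prime_pow (by
    intro h0
    apply h2'
    have h5 : w ^ 16 = 1 := h0
    rw [h16] at h5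
    linear_combination -h5) h32
  have hw0 : w ≠ 0 := by
    intro h0
    rw [h0, zero_pow (by norm_num)] at h32
    exact zero_ne_one h32
  have h6 := orderOf_dvd_of_pow_eq_one (pow_card_sub hw0)
  rw [ho, hc, hF] at h6
  exact nine_mod 32 0 _ 4 ord32 h6 rfl

theorem gcd_two {m : ℕ} (h : ¬ 13 ∣ m) : Nat.gcd m 26 ∣ 2 := by
  have h1 : Nat.Coprime m 13 := ((Nat.Prime.coprime_iff_not_dvd (by norm_num : Nat.Prime 13)).2 h).symm
  have h2 : Nat.gcd m 26 ∣ 13 * 2 := Nat.gcd_dvd_right m 26
  have h3 : Nat.Coprime (Nat.gcd m 26) 13 := Nat.Coprime.coprime_dvd_left (Nat.gcd_dvd_left m 26) h1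
  exact h3.dvd_of_dvd_mul_left h2

theorem cop13 {a b c : ZMod 3} (h : ∀ x : ZMod 3, x ^ 3 + a * x ^ 2 + b * x + c ≠ 0) {m : ℕ} (hm : ¬ 13 ∣ m) :
    IsCoprime (X ^ 3 + C a * X ^ 2 + C b * X + C c : (ZMod 3)[X]) (X ^ m - 1) := by
  set χ : (ZMod 3)[X] := X ^ 3 + C a * X ^ 2 + C b * X + C c with hχ
  have hdeg : χ.natDegree = 3 := by rw [hχ]; compute_degree!
  have hirr : Irreducible χ := by
    refine Polynomial.irreducible_of_degree_le_three_of_not_isRoot (by rw [hdeg]; decide) fun x hx => h x ?_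
    rw [IsRoot.def, hχ] at hx
    simpa using hx
  rw [Irreducible.coprime_iff_not_dvd hirr]
  rintro ⟨r, hr⟩
  have : Fact (Irreducible χ) := ⟨hirr⟩
  obtain ⟨hc, hfin⟩ := card_adj hirr
  set w := AdjoinRoot.root χ with hw
  have e0 : aeval w χ = 0 := by rw [aeval_def, AdjoinRoot.algebraMap_eq, AdjoinRoot.eval₂_root]
  have e1 : w ^ m = 1 := by
    have h3 : aeval w (X ^ m - 1 : (ZMod 3)[X]) = 0 := by rw [hr, map_mul, e0, zero_mul]
    rw [map_sub, map_pow, aeval_X, map_one, sub_eq_zero] at h3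
    exact h3
  have e2 : w ^ 3 + algebraMap (ZMod 3) _ a * w ^ 2 + algebraMap (ZMod 3) _ b * w + algebraMap (ZMod 3) _ c = 0 := by
    have h3 : aeval w (X ^ 3 + C a * X ^ 2 + C b * X + C c : (ZMod 3)[X]) = 0 := e0
    simpa using h3
  have hinj := (algebraMap (ZMod 3) (AdjoinRoot χ)).injective
  have key : ∀ x : ZMod 3, w ≠ algebraMap (ZMod 3) _ x := by
    intro x hx
    apply h x
    apply hinj
    rw [hx] at e2
    rw [map_zero, ← e2]
    simp only [map_add, map_mul, map_pow]
  have hw0 : w ≠ 0 := by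
    have := key 0
    rwa [map_zero] at this
  have e3 := pow_card_sub hw0
  rw [hc, hdeg, Nat.card_zmod] at e3
  have e4 : w ^ 2 = 1 := by
    apply orderOf_dvd_iff_pow_eq_one.1
    exact (Nat.dvd_gcd (orderOf_dvd_of_pow_eq_one e1) (orderOf_dvd_of_pow_eq_one e3)).trans (gcd_two hm)
  have e5 : (w - 1) * (w + 1) = 0 := by linear_combination e4
  rcases mul_eq_zero.1 e5 with h5 | h5
  · apply key 1
    rw [map_one]; linear_combination h5
  · apply key (-1)
    rw [map_neg, map_one]; linear_combination h5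

/-- additive polynomials of degree 729 over the field with nine elements -/
theorem deg13 (hF : Nat.card F = 9) [CharP F 3] {a b c : ZMod 3}
    (h : ∀ x : ZMod 3, x ^ 3 + a * x ^ 2 + b * x + c ≠ 0) {q : F[X]} (hq : Irreducible q)
    (hd : q ∣ X ^ 728 + C (a.cast : F) * X ^ 80 + C (b.cast : F) * X ^ 8 + C (c.cast : F)) : 13 ∣ q.natDegree := by
  have : Fact (Irreducible q) := ⟨hq⟩
  have : Fact (Nat.Prime 3) := ⟨by norm_num⟩
  obtain ⟨hc, hfin⟩ := card_adj hq
  have hch : CharP (AdjoinRoot q) 3 := charP_of_injective_algebraMap (algebraMap F (AdjoinRoot q)).injective 3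
  have hexp : ExpChar (AdjoinRoot q) 3 := ExpChar.prime (by norm_num)
  let _ : Algebra (ZMod 3) (AdjoinRoot q) := ZMod.algebra _ 3
  obtain ⟨r, hr⟩ := hd
  set w := AdjoinRoot.root q with hw
  have ha : ∀ x : ZMod 3, algebraMap F (AdjoinRoot q) (x.cast : F) = algebraMap (ZMod 3) (AdjoinRoot q) x := by
    intro x
    have h1 : ((algebraMap F (AdjoinRoot q)).comp (ZMod.castHom (dvd_refl 3) F)) = algebraMap (ZMod 3) (AdjoinRoot q) :=
      RingHom.ext_zmod _ _
    have h2 := RingHom.congr_fun h1 x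
    rw [RingHom.comp_apply, ZMod.castHom_apply] at h2
    exact h2
  have e0 : w ^ 728 + algebraMap (ZMod 3) _ a * w ^ 80 + algebraMap (ZMod 3) _ b * w ^ 8 + algebraMap (ZMod 3) _ c = 0 := by
    have h3 : aeval w (X ^ 728 + C (a.cast : F) * X ^ 80 + C (b.cast : F) * X ^ 8 + C (c.cast : F)) = 0 := by
      rw [hr, map_mul, aeval_def, AdjoinRoot.algebraMap_eq, AdjoinRoot.eval₂_root, zero_mul]
    rw [map_add, map_add, map_add, map_mul, map_mul, map_pow, map_pow, map_pow, aeval_X, aeval_C, aeval_C, aeval_C,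
      ha, ha, ha] at h3
    exact h3
  have hc0 : c ≠ 0 := by
    have h1 := h 0
    intro h0
    apply h1
    rw [h0]; ring
  have hw0 : w ≠ 0 := by
    intro h0
    rw [h0, zero_pow (by norm_num), zero_pow (by norm_num), zero_pow (by norm_num)] at e0
    apply hc0
    apply (algebraMap (ZMod 3) (AdjoinRoot q)).injective
    rw [map_zero]
    linear_combination e0
  by_contra hm
  set G : Module.End (ZMod 3) (AdjoinRoot q) :=
    ((frobenius (AdjoinRoot q) 3).comp (frobenius (AdjoinRoot q) 3)).toAddMonoidHom.toZModLinearMap 3 with hG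
  have hGa : ∀ x, G x = x ^ 9 := by
    intro x
    show (x ^ 3) ^ 3 = x ^ 9
    rw [← pow_mul]
  have hGp : ∀ (k : ℕ) (x : AdjoinRoot q), (G ^ k) x = x ^ 9 ^ k := by
    intro k
    induction k with
    | zero => intro x; rw [pow_zero, pow_zero, pow_one, Module.End.one_apply]
    | succ k ih => intro x; rw [pow_succ, Module.End.mul_apply, hGa, ih, ← pow_mul, pow_succ, mul_comm]
  obtain ⟨A, B, hAB⟩ := cop13 h hm
  apply hw0
  have h1 : aeval G (A * (X ^ 3 + C a * X ^ 2 + C b * X + C c) + B * (X ^ q.natDegree - 1)) w = w := by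
    rw [hAB, map_one, Module.End.one_apply]
  rw [← h1, map_add, map_mul, map_mul, LinearMap.add_apply, Module.End.mul_apply, Module.End.mul_apply]
  have h2 : aeval G (X ^ 3 + C a * X ^ 2 + C b * X + C c : (ZMod 3)[X]) w = 0 := by
    rw [map_add, map_add, map_add, map_mul, map_mul, map_pow, map_pow, aeval_X, aeval_C, aeval_C, aeval_C]
    rw [LinearMap.add_apply, LinearMap.add_apply, LinearMap.add_apply, Module.End.mul_apply, Module.End.mul_apply,
      Module.algebraMap_end_apply, Module.algebraMap_end_apply, Module.algebraMap_end_apply, hGp, hGp, hGa,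
      Algebra.smul_def, Algebra.smul_def, Algebra.smul_def]
    have p1 : w ^ 9 ^ 3 = w * w ^ 728 := by rw [← pow_succ']; norm_num
    have p2 : w ^ 9 ^ 2 = w * w ^ 80 := by rw [← pow_succ']; norm_num
    have p3 : w ^ 9 = w * w ^ 8 := by rw [← pow_succ']
    rw [p1, p2, p3]
    generalize w ^ 728 = y1 at *
    generalize w ^ 80 = y2 at *
    generalize w ^ 8 = y3 at *
    linear_combination w * e0
  have h3 : aeval G (X ^ q.natDegree - 1 : (ZMod 3)[X]) w = 0 := by
    rw [map_sub, map_pow, aeval_X, map_one, LinearMap.sub_apply, Module.End.one_apply, hGp, sub_eq_zero]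
    have h4 : w ^ (Nat.card F ^ q.natDegree - 1) = 1 := by rw [← hc]; exact pow_card_sub hw0
    rw [hF] at h4
    have h5 : 1 ≤ 9 ^ q.natDegree := Nat.one_le_pow _ _ (by norm_num)
    calc w ^ 9 ^ q.natDegree = w ^ (9 ^ q.natDegree - 1) * w := by rw [← pow_succ, Nat.sub_add_cancel h5]
      _ = w := by rw [h4, one_mul]
  rw [h2, h3, map_zero, map_zero, add_zero]

end deg

end Cfsg.Agent.R2.T2.Orb
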