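import Cfsg.Agent.R2.T2.Orb.Dih
import Cfsg.Agent.R2.T2.Orb.Div
import Cfsg.Agent.R2.T1.N6L.MuDef
import Cfsg.Agent.H943.RepAdd

/-!
# S5929, orbit box: decomposition of modules of `A₆` under a commuting endomorphism (helper2)

* `K T p` : the kernel of `p(T)`; `split_K`, `dvd_K`;
* `Nm ρ W C E k` : the dimensions of the fixed spaces for the dihedral group `⟨b0, t0⟩`; `nm_of`, `nm_add`.
-/

set_option autoImplicit false
set_option linter.unusedSectionVars false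

namespace Cfsg.Agent.R2.T2.Orb

open Module Polynomial Equiv
open Cfsg.Agent.H943.RepAdd (subRep coe_subRep)
open Cfsg.Agent.H952.F4 (ev)
open Cfsg.Agent.R2.T1.N6L (Mu)

universe u v

section gen

variable {F : Type u} [Field F] {E : Type v} [AddCommGroup E] [Module F E]

/-- the kernel of `p(T)` -/
noncomputable def K (T : Module.End F E) (p : F[X]) : Submodule F E := LinearMap.ker (aeval T p)

theorem mem_K {T : Module.End F E} {p : F[X]} {x : E} : x ∈ K T p ↔ aeval T p x = 0 := Iff.rfl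

theorem K_comm {T f : Module.End F E} (h : ∀ x, f (T x) = T (f x)) (p : F[X]) : ∀ x ∈ K T p, f x ∈ K T p := by
  intro x hx
  rw [mem_K] at hx ⊢
  rw [← aeval_comm h p x, hx, map_zero]

theorem K_stab (T : Module.End F E) (p : F[X]) : ∀ x ∈ K T p, T x ∈ K T p := K_comm (fun _ => rfl) p

theorem aeval_mem {T : Module.End F E} {Z : Submodule F E} (hZ : ∀ z ∈ Z, T z ∈ Z) (p : F[X]) : ∀ z ∈ Z, aeval T p z ∈ Z := by
  intro z hz
  have h := aeval_comm (T := T.restrict hZ) (T' := T) (f := Z.subtype) (fun _ => rfl) p ⟨z, hz⟩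
  rw [Submodule.subtype_apply, Submodule.subtype_apply] at h
  rw [← h]
  exact Subtype.mem _

theorem aeval_mul_apply (T : Module.End F E) (p q : F[X]) (x : E) : aeval T (p * q) x = aeval T p (aeval T q x) := by
  rw [map_mul, Module.End.mul_apply]

theorem K_le_mul (T : Module.End F E) (p q : F[X]) : K T p ≤ K T (p * q) := by
  intro x hx
  rw [mem_K, mul_comm, aeval_mul_apply, mem_K.1 hx, map_zero]

theorem K_le_mul' (T : Module.End F E) (p q : F[X]) : K T q ≤ K T (p * q) := by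
  rw [mul_comm]; exact K_le_mul T q p

variable [FiniteDimensional F E]

theorem split_K {T : Module.End F E} {p q : F[X]} (h : IsCoprime p q) {Z : Submodule F E} (hZ : ∀ z ∈ Z, T z ∈ Z) :
    finrank F ↥(K T (p * q) ⊓ Z) = finrank F ↥(K T p ⊓ Z) + finrank F ↥(K T q ⊓ Z) := by
  obtain ⟨a, b, hab⟩ := h
  refine split_of (inf_le_inf_right _ (K_le_mul T p q)) (inf_le_inf_right _ (K_le_mul' T p q)) ?_ ?_
  · rintro w ⟨hw, hwZ⟩
    refine ⟨aeval T (b * q) w, ⟨?_, aeval_mem hZ _ _ hwZ⟩, aeval T (a * p) w, ⟨?_, aeval_mem hZ _ _ hwZ⟩, ?_⟩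
    · rw [SetLike.mem_coe, mem_K, ← aeval_mul_apply, show p * (b * q) = b * (p * q) by ring, aeval_mul_apply,
        mem_K.1 hw, map_zero]
    · rw [SetLike.mem_coe, mem_K, ← aeval_mul_apply, show q * (a * p) = a * (p * q) by ring, aeval_mul_apply,
        mem_K.1 hw, map_zero]
    · rw [← LinearMap.add_apply, ← map_add, add_comm (b * q), hab, map_one, Module.End.one_apply]
  · rintro x ⟨h1, -⟩ ⟨h2, -⟩
    have h3 : aeval T (a * p + b * q) x = x := by rw [hab, map_one, Module.End.one_apply]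
    rw [← h3, map_add, LinearMap.add_apply, aeval_mul_apply, aeval_mul_apply, mem_K.1 h1, mem_K.1 h2, map_zero, map_zero,
      add_zero]

theorem dvd_K {d : ℕ} {p : F[X]} (hp : ∀ q : F[X], q.Monic → Irreducible q → q ∣ p → d ∣ q.natDegree)
    {T : Module.End F E} {W Z : Submodule F E} (hW : W ≤ K T p) (hWT : ∀ w ∈ W, T w ∈ W) (hZ : ∀ z ∈ Z, T z ∈ Z) :
    d ∣ finrank F ↥(W ⊓ Z) :=
  dvd_sub hp (T := T) (fun w hw => ⟨hWT w hw.1, hZ w hw.2⟩) fun _ hw => mem_K.1 (hW hw.1)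

theorem eg_stab {T f : Module.End F E} (h : ∀ x, f (T x) = T (f x)) (c : F) : ∀ x ∈ eg f c, T x ∈ eg f c := by
  intro x hx
  rw [mem_eg] at hx ⊢
  rw [h, hx, map_smul]

theorem inf_stab {T : Module.End F E} {A B : Submodule F E} (hA : ∀ x ∈ A, T x ∈ A) (hB : ∀ x ∈ B, T x ∈ B) :
    ∀ x ∈ A ⊓ B, T x ∈ A ⊓ B := fun x hx => ⟨hA x hx.1, hB x hx.2⟩

end gen

/-! ### elements of `A₆` -/

/-- the element `(0 1 2 3)(4 5)` -/
def b0 : ↥(alternatingGroup (Fin 6)) := ⟨swap 0 1 * swap 1 2 * swap 2 3 * swap 4 5, by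
  rw [Equiv.Perm.mem_alternatingGroup]; decide⟩

/-- the element `(0 2)(4 5)` -/
def t0 : ↥(alternatingGroup (Fin 6)) := ⟨swap 0 2 * swap 4 5, by rw [Equiv.Perm.mem_alternatingGroup]; decide⟩

theorem b0_pow : b0 * b0 * b0 * b0 = 1 := by decide
theorem b0_sq_ne : b0 * b0 ≠ 1 := by decide
theorem t0_sq : t0 * t0 = 1 := by decide
theorem t0_ne : t0 ≠ 1 := by decide
theorem tb_sq : (t0 * b0) * (t0 * b0) = 1 := by decide
theorem tb_ne : t0 * b0 ≠ 1 := by decide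
theorem t0_b0 : t0 * b0 = b0 * b0 * b0 * t0 := by decide

theorem ord_two {G : Type*} [Group G] {x : G} (h : x * x = 1) (h1 : x ≠ 1) : orderOf x = 2 :=
  orderOf_eq_prime (by rw [pow_two]; exact h) h1

theorem ord_b0 : orderOf b0 = 4 := by
  have h : orderOf b0 = 2 ^ (1 + 1) := orderOf_eq_prime_pow (by rw [pow_one, pow_two]; exact b0_sq_ne)
    (by rw [show 2 ^ (1 + 1) = 4 from rfl, pow_succ, pow_succ, pow_two]; exact b0_pow)
  exact h

section rep

variable {F : Type u} [Field F] {E : Type v} [AddCommGroup E] [Module F E] [FiniteDimensional F E]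
variable {ρ : Representation F ↥(alternatingGroup (Fin 6)) E}

theorem ev_sub {W : Submodule F E} (hW : ∀ g, ∀ x ∈ W, ρ g x ∈ W) (g : ↥(alternatingGroup (Fin 6))) (c : F) :
    ev (subRep ρ W hW g) c = finrank F ↥(W ⊓ eg (ρ g) c) := by
  have h1 : (W ⊓ eg (ρ g) c) = (Module.End.eigenspace (subRep ρ W hW g) c).map W.subtype := by
    ext x
    constructor
    · rintro ⟨hx, hx'⟩
      refine ⟨⟨x, hx⟩, ?_, rfl⟩
      rw [SetLike.mem_coe, Module.End.mem_eigenspace_iff]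
      exact Subtype.ext (mem_eg.1 hx')
    · rintro ⟨y, hy, rfl⟩
      refine ⟨y.2, ?_⟩
      rw [SetLike.mem_coe, Module.End.mem_eigenspace_iff] at hy
      rw [SetLike.mem_coe, mem_eg]
      have h2 := congrArg Subtype.val hy
      exact h2
  rw [h1, ev, Submodule.finrank_map_subtype_eq]

/-- the numbers of a submodule -/
structure Nm (ρ : Representation F ↥(alternatingGroup (Fin 6)) E) (W : Submodule F E) (C D k : ℕ) : Prop where
  fc : finrank F ↥(W ⊓ eg (ρ b0) 1) = C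
  fe : finrank F ↥(W ⊓ (eg (ρ b0) (-1) ⊓ eg (ρ t0) 1)) = D
  fk : finrank F ↥(W ⊓ (eg (ρ b0) 1 ⊓ eg (ρ t0) (-1))) = k
  dim : finrank F ↥W = C + 4 * D + 2 * k
  le : k ≤ C

/-- the dihedral relations for a submodule -/
theorem nm_of (h2 : (2 : F) ≠ 0) {i : F} (hi : i * i = -1) {W : Submodule F E} (hW : ∀ g, ∀ x ∈ W, ρ g x ∈ W)
    (h : ∀ x y : ↥(alternatingGroup (Fin 6)), orderOf x = 2 → orderOf y = 2 →
      finrank F ↥(W ⊓ eg (ρ x) 1) = finrank F ↥(W ⊓ eg (ρ y) 1)) : ∃ C D k, Nm ρ W C D k ∧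
      finrank F ↥(W ⊓ eg (ρ (b0 * b0)) 1) = C + 2 * D := by
  have hg4 : ∀ w ∈ W, ρ b0 (ρ b0 (ρ b0 (ρ b0 w))) = w := by
    intro w _
    rw [← Module.End.mul_apply, ← Module.End.mul_apply, ← Module.End.mul_apply, ← map_mul, ← map_mul, ← map_mul, b0_pow,
      map_one, Module.End.one_apply]
  have ht2 : ∀ w ∈ W, ρ t0 (ρ t0 w) = w := by
    intro w _
    rw [← Module.End.mul_apply, ← map_mul, t0_sq, map_one, Module.End.one_apply]
  have htg : ∀ w ∈ W, ρ t0 (ρ b0 w) = ρ b0 (ρ b0 (ρ b0 (ρ t0 w))) := by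
    intro w _
    rw [← Module.End.mul_apply, ← map_mul, t0_b0, map_mul, map_mul, map_mul]
    rfl
  have h1 := dih h2 hi (W := W) (g := ρ b0) (t := ρ t0) (hW b0) (hW t0) hg4 ht2 htg
    (by rw [← map_mul]; exact h _ _ (ord_two (by rw [← mul_assoc]; exact b0_pow) b0_sq_ne) (ord_two t0_sq t0_ne))
    (by rw [← map_mul]; exact h _ _ (ord_two tb_sq tb_ne) (ord_two t0_sq t0_ne))
  obtain ⟨e1, e2, e3, e4⟩ := h1
  refine ⟨_, _, _, ⟨rfl, rfl, rfl, ?_, ?_⟩, ?_⟩
  · rw [← inf_assoc, ← inf_assoc]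
    omega
  · rw [← inf_assoc]
    exact e3
  · rw [map_mul, ← inf_assoc]
    exact e4

/-- additivity -/
theorem nm_add {T : Module.End F E} (hT : ∀ g x, ρ g (T x) = T (ρ g x)) {p q : F[X]} (h : IsCoprime p q)
    {C D k C1 D1 k1 C2 D2 k2 : ℕ} (h0 : Nm ρ (K T (p * q)) C D k) (h1 : Nm ρ (K T p) C1 D1 k1)
    (h2 : Nm ρ (K T q) C2 D2 k2) : C = C1 + C2 ∧ D = D1 + D2 ∧ k = k1 + k2 := by
  refine ⟨?_, ?_, ?_⟩
  · rw [← h0.fc, ← h1.fc, ← h2.fc]
    exact split_K h (eg_stab (hT b0) _)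
  · rw [← h0.fe, ← h1.fe, ← h2.fe]
    exact split_K h (inf_stab (eg_stab (hT b0) _) (eg_stab (hT t0) _))
  · rw [← h0.fk, ← h1.fk, ← h2.fk]
    exact split_K h (inf_stab (eg_stab (hT b0) _) (eg_stab (hT t0) _))

/-- divisibility -/
theorem nm_dvd {d : ℕ} {p : F[X]} (hp : ∀ q : F[X], q.Monic → Irreducible q → q ∣ p → d ∣ q.natDegree)
    {T : Module.End F E} (hT : ∀ g x, ρ g (T x) = T (ρ g x)) {W : Submodule F E} (hW : W ≤ K T p)
    (hWT : ∀ w ∈ W, T w ∈ W) {C D k : ℕ} (h : Nm ρ W C D k) : d ∣ C ∧ d ∣ D ∧ d ∣ k := by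
  refine ⟨?_, ?_, ?_⟩
  · rw [← h.fc]
    exact dvd_K hp hW hWT (eg_stab (hT b0) _)
  · rw [← h.fe]
    exact dvd_K hp hW hWT (inf_stab (eg_stab (hT b0) _) (eg_stab (hT t0) _))
  · rw [← h.fk]
    exact dvd_K hp hW hWT (inf_stab (eg_stab (hT b0) _) (eg_stab (hT t0) _))

/-- the pressure in terms of the numbers -/
theorem nm_mu (h2 : (2 : F) ≠ 0) {i : F} (hi : i * i = -1) {τ : F} {a : ↥(alternatingGroup (Fin 6))} {W : Submodule F E}
    (hW : ∀ g, ∀ x ∈ W, ρ g x ∈ W) {n na nb m l : ℕ} (hmu : Mu (subRep ρ W hW) τ a n na nb m l) :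
    Nm ρ W (n + na + nb + 3 * l) (m + l) (na + nb + l) := by
  obtain ⟨C, D, k, h1, h3⟩ := nm_of h2 hi hW (by
    intro x y hx hy
    rw [← ev_sub hW, ← ev_sub hW, hmu.two x hx, hmu.two y hy])
  have e1 := h1.fc
  rw [← ev_sub hW, hmu.four b0 ord_b0] at e1
  rw [← ev_sub hW, hmu.two _ (ord_two (by rw [← mul_assoc]; exact b0_pow) b0_sq_ne)] at h3
  have e2 := h1.dim
  rw [hmu.dim] at e2
  have a1 : C = n + na + nb + 3 * l := e1.symm
  have a2 : D = m + l := by omega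
  have a3 : k = na + nb + l := by omega
  rw [a1, a2, a3] at h1
  exact h1

end rep

end Cfsg.Agent.R2.T2.Orb
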