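import Mathlib

/-!
# S5929, orbit box: dihedral groups of order 8 (helper2)

* `split_of`, `split2`, `fr_le` : dimensions;
* `dih` : the relations between the dimensions of the fixed spaces for `⟨g, t⟩`, `g ^ 4 = t ^ 2 = 1`, `t g t = g⁻¹`, when
  the fixed spaces of `g ^ 2`, `t`, `t g` have the same dimension.
-/

set_option autoImplicit false

namespace Cfsg.Agent.R2.T2.Orb

open Module

universe u v

variable {F : Type u} [Field F] {E : Type v} [AddCommGroup E] [Module F E]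

/-- eigenspaces -/
abbrev eg (f : Module.End F E) (c : F) : Submodule F E := f.eigenspace c

theorem mem_eg {f : Module.End F E} {c : F} {x : E} : x ∈ eg f c ↔ f x = c • x := Module.End.mem_eigenspace_iff

theorem mem_eg1 {f : Module.End F E} {x : E} : x ∈ eg f 1 ↔ f x = x := by rw [mem_eg, one_smul]

theorem mem_egn {f : Module.End F E} {x : E} : x ∈ eg f (-1) ↔ f x = -x := by rw [mem_eg, neg_smul, one_smul]

variable [FiniteDimensional F E]

omit [FiniteDimensional F E] in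
theorem fr_congr {A B : Submodule F E} (h : ∀ w, w ∈ A ↔ w ∈ B) : finrank F A = finrank F B := by
  rw [Submodule.ext h]

omit [FiniteDimensional F E] in
theorem cube_eg {g : Module.End F E} {w : E} {j : F} (h : g w = j • w) : g (g (g w)) = (j * j * j) • w := by
  rw [h, map_smul, h, map_smul, map_smul, h, smul_smul, smul_smul]

theorem split_of {W A B : Submodule F E} (hA : A ≤ W) (hB : B ≤ W) (h : ∀ w ∈ W, ∃ a ∈ A, ∃ b ∈ B, w = a + b)
    (hd : ∀ x, x ∈ A → x ∈ B → x = 0) : finrank F W = finrank F A + finrank F B := by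
  have h1 := Submodule.finrank_sup_add_finrank_inf_eq A B
  have h2 : A ⊓ B = ⊥ := by
    rw [eq_bot_iff]
    rintro x ⟨ha, hb⟩
    exact (Submodule.mem_bot F).2 (hd x ha hb)
  have h3 : A ⊔ B = W := by
    refine le_antisymm (sup_le hA hB) fun w hw => ?_
    obtain ⟨a, ha, b, hb, rfl⟩ := h w hw
    exact Submodule.add_mem_sup ha hb
  rw [h2, h3, finrank_bot, add_zero] at h1
  exact h1

theorem fr_le {A B : Submodule F E} {f : Module.End F E} (h : ∀ a ∈ A, f a ∈ B) (hi : ∀ a ∈ A, f a = 0 → a = 0) :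
    finrank F A ≤ finrank F B := by
  refine LinearMap.finrank_le_finrank_of_injective (f := f.restrict h) ?_
  rw [← LinearMap.ker_eq_bot, eq_bot_iff]
  intro x hx
  rw [LinearMap.mem_ker] at hx
  have h1 : f x = 0 := congrArg Subtype.val hx
  exact (Submodule.mem_bot F).2 (Subtype.ext (hi x x.2 h1))

theorem split2 (h2 : (2 : F) ≠ 0) {W : Submodule F E} {t : Module.End F E} (hW : ∀ w ∈ W, t w ∈ W)
    (ht : ∀ w ∈ W, t (t w) = w) : finrank F W = finrank F ↥(W ⊓ eg t 1) + finrank F ↥(W ⊓ eg t (-1)) := by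
  refine split_of inf_le_left inf_le_left ?_ ?_
  · intro w hw
    refine ⟨(2 : F)⁻¹ • (w + t w), ⟨W.smul_mem _ (W.add_mem hw (hW w hw)), ?_⟩, (2 : F)⁻¹ • (w - t w),
      ⟨W.smul_mem _ (W.sub_mem hw (hW w hw)), ?_⟩, ?_⟩
    · rw [SetLike.mem_coe, mem_eg1, map_smul, map_add, ht w hw, add_comm]
    · rw [SetLike.mem_coe, mem_egn, map_smul, map_sub, ht w hw, ← smul_neg, neg_sub]
    · rw [← smul_add, add_add_sub_cancel, ← two_smul F w, smul_smul, inv_mul_cancel₀ h2, one_smul]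
  · rintro x ⟨-, h1⟩ ⟨-, h3⟩
    rw [SetLike.mem_coe, mem_eg1] at h1
    rw [SetLike.mem_coe, mem_egn, h1] at h3
    have h4 : (2 : F) • x = 0 := by rw [two_smul]; nth_rewrite 1 [h3]; exact neg_add_cancel x
    exact (smul_eq_zero.1 h4).resolve_left h2

/-- the basic relation: `dim W^t = c₊ + e₊ + s` -/
theorem dih_aux (h2 : (2 : F) ≠ 0) {i : F} (hi : i * i = -1) {W : Submodule F E} {g t : Module.End F E}
    (hg : ∀ w ∈ W, g w ∈ W) (ht : ∀ w ∈ W, t w ∈ W) (hg4 : ∀ w ∈ W, g (g (g (g w))) = w) (ht2 : ∀ w ∈ W, t (t w) = w)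
    (htg : ∀ w ∈ W, t (g w) = g (g (g (t w)))) :
    finrank F ↥(W ⊓ eg t 1) = finrank F ↥(W ⊓ eg g 1 ⊓ eg t 1) + finrank F ↥(W ⊓ eg g (-1) ⊓ eg t 1) +
      finrank F ↥(W ⊓ eg g i) := by
  have htgg : ∀ w ∈ W, t (g (g w)) = g (g (t w)) := by
    intro w hw
    rw [htg _ (hg w hw), htg w hw, hg4 _ (hg _ (hg _ (ht w hw)))]
  -- `g t = t g³`
  have hgt : ∀ w ∈ W, g (t w) = t (g (g (g w))) := by
    intro w hw
    have h1 := htg (g (g w)) (hg _ (hg _ hw))
    rw [htgg w hw] at h1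
    rw [h1]
    rw [hg4 _ (hg _ (ht w hw))]
  have h3 : finrank F ↥(W ⊓ eg t 1) = finrank F ↥(W ⊓ eg t 1 ⊓ eg (g * g) 1) + finrank F ↥(W ⊓ eg t 1 ⊓ eg (g * g) (-1)) := by
    refine split2 h2 ?_ ?_
    · rintro w ⟨hw, hw1⟩
      rw [SetLike.mem_coe, mem_eg1] at hw1
      refine ⟨hg _ (hg _ hw), ?_⟩
      rw [SetLike.mem_coe, mem_eg1, Module.End.mul_apply, htgg w hw, hw1]
    · rintro w ⟨hw, -⟩
      exact hg4 w hw
  have h4 : finrank F ↥(W ⊓ eg t 1 ⊓ eg (g * g) 1) = finrank F ↥(W ⊓ eg g 1 ⊓ eg t 1) + finrank F ↥(W ⊓ eg g (-1) ⊓ eg t 1) := by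
    have h5 := split2 h2 (W := W ⊓ eg t 1 ⊓ eg (g * g) 1) (t := g) (by
      rintro w ⟨⟨hw, hw1⟩, hw2⟩
      rw [SetLike.mem_coe, mem_eg1] at hw1
      rw [SetLike.mem_coe, mem_eg1, Module.End.mul_apply] at hw2
      refine ⟨⟨hg w hw, ?_⟩, ?_⟩
      · rw [SetLike.mem_coe, mem_eg1, htg w hw, hw1, hw2]
      · rw [SetLike.mem_coe, mem_eg1, Module.End.mul_apply, hw2]) (by
      rintro w ⟨-, hw2⟩
      rw [SetLike.mem_coe, mem_eg1, Module.End.mul_apply] at hw2
      exact hw2)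
    rw [h5]
    congr 1
    · refine fr_congr fun w => ?_
      constructor
      · rintro ⟨⟨⟨a, b⟩, c⟩, d⟩
        exact ⟨⟨a, d⟩, b⟩
      · rintro ⟨⟨a, d⟩, b⟩
        refine ⟨⟨⟨a, b⟩, ?_⟩, d⟩
        rw [SetLike.mem_coe, mem_eg1] at d ⊢
        rw [Module.End.mul_apply, d, d]
    · refine fr_congr fun w => ?_
      constructor
      · rintro ⟨⟨⟨a, b⟩, c⟩, d⟩
        exact ⟨⟨a, d⟩, b⟩
      · rintro ⟨⟨a, d⟩, b⟩
        refine ⟨⟨⟨a, b⟩, ?_⟩, d⟩
        rw [SetLike.mem_coe, mem_egn] at d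
        rw [SetLike.mem_coe, mem_eg1, Module.End.mul_apply, d, map_neg, d, neg_neg]
  have hii : ∀ x : E, x ∈ W → g x = i • x → g x = (-i) • x → x = 0 := by
    intro x _ ha hb
    rw [ha] at hb
    have h6 : (2 * i) • x = 0 := by
      rw [two_mul, add_smul]
      nth_rewrite 1 [hb]
      rw [neg_smul, neg_add_cancel]
    have hi0 : i ≠ 0 := by
      rintro rfl
      rw [mul_zero] at hi
      exact one_ne_zero (neg_eq_zero.1 hi.symm)
    exact (smul_eq_zero.1 h6).resolve_left (mul_ne_zero h2 hi0)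
  have hcube : ∀ w ∈ W, g w = i • w → g (g (g w)) = (-i) • w := by
    intro w hw h
    rw [cube_eg h]
    congr 1
    rw [hi]; ring
  have h7 : finrank F ↥(W ⊓ eg t 1 ⊓ eg (g * g) (-1)) = finrank F ↥(W ⊓ eg g i) := by
    apply le_antisymm
    · refine fr_le (f := 1 - i • g) ?_ ?_
      · rintro w ⟨⟨hw, hw1⟩, hw2⟩
        rw [SetLike.mem_coe, mem_egn, Module.End.mul_apply] at hw2
        refine ⟨?_, ?_⟩
        · show w - i • g w ∈ W
          exact W.sub_mem hw (W.smul_mem _ (hg w hw))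
        · rw [SetLike.mem_coe, mem_eg]
          show g (w - i • g w) = i • (w - i • g w)
          rw [map_sub, map_smul, hw2, smul_sub, smul_smul, hi, neg_smul, one_smul, smul_neg]
          abel
      · rintro w ⟨⟨hw, hw1⟩, hw2⟩ h0
        rw [SetLike.mem_coe, mem_eg1] at hw1
        have h8 : w - i • g w = 0 := h0
        have h9 : g w = (-i) • w := by
          have h10 : w = i • g w := sub_eq_zero.1 h8
          calc g w = (-(i * i)) • g w := by rw [hi, neg_neg, one_smul]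
            _ = (-i) • (i • g w) := by rw [smul_smul]; congr 1; ring
            _ = (-i) • w := by rw [← h10]
        refine hii w hw ?_ h9
        -- `t w = w` gives `g w = i w`
        have h11 := hgt w hw
        rw [hw1] at h11
        rw [h11, cube_eg h9, map_smul, hw1]
        congr 1
        linear_combination (-i) * hi
    · refine fr_le (f := 1 + t) ?_ ?_
      · rintro w ⟨hw, hw1⟩
        rw [SetLike.mem_coe, mem_eg] at hw1
        have h12 : g (t w) = (-i) • t w := by rw [hgt w hw, hcube w hw hw1, map_smul]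
        refine ⟨⟨?_, ?_⟩, ?_⟩
        · show w + t w ∈ W
          exact W.add_mem hw (ht w hw)
        · rw [SetLike.mem_coe, mem_eg1]
          show t (w + t w) = w + t w
          rw [map_add, ht2 w hw, add_comm]
        · rw [SetLike.mem_coe, mem_egn, Module.End.mul_apply]
          show g (g (w + t w)) = - (w + t w)
          rw [map_add, hw1, h12, map_add, map_smul, map_smul, hw1, h12, smul_smul, smul_smul, hi, neg_mul_neg, hi,
            neg_smul, one_smul, neg_smul, one_smul]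
          abel
      · rintro w ⟨hw, hw1⟩ h0
        rw [SetLike.mem_coe, mem_eg] at hw1
        have h8 : w + t w = 0 := h0
        have h12 : g (t w) = (-i) • t w := by rw [hgt w hw, hcube w hw hw1, map_smul]
        have h13 : t w = -w := eq_neg_of_add_eq_zero_right h8
        rw [h13, map_neg, smul_neg, neg_inj] at h12
        exact hii w hw hw1 h12
  rw [h3, h4, h7]

/-- **the dihedral relations** -/
theorem dih (h2 : (2 : F) ≠ 0) {i : F} (hi : i * i = -1) {W : Submodule F E} {g t : Module.End F E}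
    (hg : ∀ w ∈ W, g w ∈ W) (ht : ∀ w ∈ W, t w ∈ W) (hg4 : ∀ w ∈ W, g (g (g (g w))) = w) (ht2 : ∀ w ∈ W, t (t w) = w)
    (htg : ∀ w ∈ W, t (g w) = g (g (g (t w))))
    (e1 : finrank F ↥(W ⊓ eg (g * g) 1) = finrank F ↥(W ⊓ eg t 1))
    (e2 : finrank F ↥(W ⊓ eg (t * g) 1) = finrank F ↥(W ⊓ eg t 1)) :
    finrank F W = finrank F ↥(W ⊓ eg g 1) + 2 * finrank F ↥(W ⊓ eg g (-1) ⊓ eg t 1) + 2 * finrank F ↥(W ⊓ eg g i) ∧
    finrank F ↥(W ⊓ eg g i) = finrank F ↥(W ⊓ eg g 1 ⊓ eg t (-1)) + finrank F ↥(W ⊓ eg g (-1) ⊓ eg t 1) ∧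
    finrank F ↥(W ⊓ eg g 1 ⊓ eg t (-1)) ≤ finrank F ↥(W ⊓ eg g 1) ∧
    finrank F ↥(W ⊓ eg (g * g) 1) = finrank F ↥(W ⊓ eg g 1) + 2 * finrank F ↥(W ⊓ eg g (-1) ⊓ eg t 1) := by
  have htgg : ∀ w ∈ W, t (g (g w)) = g (g (t w)) := by
    intro w hw
    rw [htg _ (hg w hw), htg w hw, hg4 _ (hg _ (hg _ (ht w hw)))]
  have hgt : ∀ w ∈ W, g (t w) = t (g (g (g w))) := by
    intro w hw
    have h1 := htg (g (g w)) (hg _ (hg _ hw))
    rw [htgg w hw] at h1
    rw [h1, hg4 _ (hg _ (ht w hw))]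
  have a1 := dih_aux h2 hi hg ht hg4 ht2 htg
  have a2 := dih_aux h2 hi (t := t * g) hg (fun w hw => ht _ (hg w hw)) hg4 (by
    intro w hw
    show t (g (t (g w))) = w
    rw [hgt _ (hg w hw), hg4 w hw, ht2 w hw]) (by
    intro w hw
    show t (g (g w)) = g (g (g (t (g w))))
    rw [htg w hw, hg4 _ (hg _ (hg _ (ht w hw))), htgg w hw])
  have b1 : W ⊓ eg g 1 ⊓ eg (t * g) 1 = W ⊓ eg g 1 ⊓ eg t 1 := by
    ext w
    constructor
    · rintro ⟨⟨a, b⟩, c⟩
      refine ⟨⟨a, b⟩, ?_⟩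
      rw [SetLike.mem_coe, mem_eg1] at b c ⊢
      rwa [Module.End.mul_apply, b] at c
    · rintro ⟨⟨a, b⟩, c⟩
      refine ⟨⟨a, b⟩, ?_⟩
      rw [SetLike.mem_coe, mem_eg1] at b c ⊢
      rwa [Module.End.mul_apply, b]
  have b2 : W ⊓ eg g (-1) ⊓ eg (t * g) 1 = W ⊓ eg g (-1) ⊓ eg t (-1) := by
    ext w
    constructor
    · rintro ⟨⟨a, b⟩, c⟩
      refine ⟨⟨a, b⟩, ?_⟩
      rw [SetLike.mem_coe, mem_egn] at b
      rw [SetLike.mem_coe, mem_eg1, Module.End.mul_apply, b, map_neg] at c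
      rw [SetLike.mem_coe, mem_egn]
      nth_rewrite 2 [← c]
      rw [neg_neg]
    · rintro ⟨⟨a, b⟩, c⟩
      refine ⟨⟨a, b⟩, ?_⟩
      rw [SetLike.mem_coe, mem_egn] at b c
      rw [SetLike.mem_coe, mem_eg1, Module.End.mul_apply, b, map_neg, c, neg_neg]
  rw [b1, b2] at a2
  -- splitting
  have s1 := split2 h2 (W := W) (t := g * g) (fun w hw => hg _ (hg w hw)) (fun w hw => hg4 w hw)
  have s2 : finrank F ↥(W ⊓ eg (g * g) 1) = finrank F ↥(W ⊓ eg g 1) + finrank F ↥(W ⊓ eg g (-1)) := by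
    have h5 := split2 h2 (W := W ⊓ eg (g * g) 1) (t := g) (by
      rintro w ⟨hw, hw2⟩
      rw [SetLike.mem_coe, mem_eg1, Module.End.mul_apply] at hw2
      refine ⟨hg w hw, ?_⟩
      rw [SetLike.mem_coe, mem_eg1, Module.End.mul_apply, hw2]) (by
      rintro w ⟨-, hw2⟩
      rw [SetLike.mem_coe, mem_eg1, Module.End.mul_apply] at hw2
      exact hw2)
    rw [h5]
    congr 1
    · refine fr_congr fun w => ?_
      constructor
      · rintro ⟨⟨a, c⟩, d⟩
        exact ⟨a, d⟩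
      · rintro ⟨a, d⟩
        refine ⟨⟨a, ?_⟩, d⟩
        rw [SetLike.mem_coe, mem_eg1] at d ⊢
        rw [Module.End.mul_apply, d, d]
    · refine fr_congr fun w => ?_
      constructor
      · rintro ⟨⟨a, c⟩, d⟩
        exact ⟨a, d⟩
      · rintro ⟨a, d⟩
        refine ⟨⟨a, ?_⟩, d⟩
        rw [SetLike.mem_coe, mem_egn] at d
        rw [SetLike.mem_coe, mem_eg1, Module.End.mul_apply, d, map_neg, d, neg_neg]
  have s3 : finrank F ↥(W ⊓ eg (g * g) (-1)) = finrank F ↥(W ⊓ eg g i) + finrank F ↥(W ⊓ eg g (-i)) := by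
    refine split_of ?_ ?_ ?_ ?_
    · rintro w ⟨hw, hw1⟩
      rw [SetLike.mem_coe, mem_eg] at hw1
      refine ⟨hw, ?_⟩
      rw [SetLike.mem_coe, mem_egn, Module.End.mul_apply, hw1, map_smul, hw1, smul_smul, hi, neg_smul, one_smul]
    · rintro w ⟨hw, hw1⟩
      rw [SetLike.mem_coe, mem_eg] at hw1
      refine ⟨hw, ?_⟩
      rw [SetLike.mem_coe, mem_egn, Module.End.mul_apply, hw1, map_smul, hw1, smul_smul, neg_mul_neg, hi, neg_smul,
        one_smul]
    · rintro w ⟨hw, hw1⟩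
      rw [SetLike.mem_coe, mem_egn, Module.End.mul_apply] at hw1
      refine ⟨(2 : F)⁻¹ • (w - i • g w), ⟨W.smul_mem _ (W.sub_mem hw (W.smul_mem _ (hg w hw))), ?_⟩,
        (2 : F)⁻¹ • (w + i • g w), ⟨W.smul_mem _ (W.add_mem hw (W.smul_mem _ (hg w hw))), ?_⟩, ?_⟩
      · rw [SetLike.mem_coe, mem_eg, map_smul, map_sub, map_smul, hw1, smul_comm]
        congr 1
        rw [smul_sub, smul_smul, hi, neg_smul, one_smul, smul_neg]
        abel
      · rw [SetLike.mem_coe, mem_eg, map_smul, map_add, map_smul, hw1, smul_comm]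
        congr 1
        rw [smul_add, smul_smul, neg_mul, hi, neg_neg, one_smul, smul_neg, neg_smul]
        abel
      · rw [← smul_add, sub_add_add_cancel, ← two_smul F w, smul_smul, inv_mul_cancel₀ h2, one_smul]
    · rintro x ⟨-, h1⟩ ⟨-, h3⟩
      rw [SetLike.mem_coe, mem_eg] at h1 h3
      rw [h1] at h3
      have h6 : (2 * i) • x = 0 := by
        rw [two_mul, add_smul]
        nth_rewrite 1 [h3]
        rw [neg_smul, neg_add_cancel]
      have hi0 : i ≠ 0 := by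
        rintro rfl
        rw [mul_zero] at hi
        exact one_ne_zero (neg_eq_zero.1 hi.symm)
      exact (smul_eq_zero.1 h6).resolve_left (mul_ne_zero h2 hi0)
  have hinj : ∀ (A : Submodule F E), A ≤ W → ∀ a ∈ A, t a = 0 → a = 0 := by
    intro A hA a ha h0
    rw [← ht2 a (hA ha), h0, map_zero]
  have s4 : finrank F ↥(W ⊓ eg g i) = finrank F ↥(W ⊓ eg g (-i)) := by
    apply le_antisymm
    · refine fr_le (f := t) ?_ (hinj _ inf_le_left)
      rintro w ⟨hw, hw1⟩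
      rw [SetLike.mem_coe, mem_eg] at hw1
      refine ⟨ht w hw, ?_⟩
      rw [SetLike.mem_coe, mem_eg, hgt w hw, cube_eg hw1, map_smul]
      congr 1
      linear_combination i * hi
    · refine fr_le (f := t) ?_ (hinj _ inf_le_left)
      rintro w ⟨hw, hw1⟩
      rw [SetLike.mem_coe, mem_eg] at hw1
      refine ⟨ht w hw, ?_⟩
      rw [SetLike.mem_coe, mem_eg, hgt w hw, cube_eg hw1, map_smul]
      congr 1
      linear_combination (-i) * hi
  have s5 := split2 h2 (W := W ⊓ eg g 1) (t := t) (by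
    rintro w ⟨hw, hw1⟩
    rw [SetLike.mem_coe, mem_eg1] at hw1
    refine ⟨ht w hw, ?_⟩
    rw [SetLike.mem_coe, mem_eg1, hgt w hw, hw1, hw1, hw1]) (fun w hw => ht2 w hw.1)
  have s6 := split2 h2 (W := W ⊓ eg g (-1)) (t := t) (by
    rintro w ⟨hw, hw1⟩
    rw [SetLike.mem_coe, mem_egn] at hw1
    refine ⟨ht w hw, ?_⟩
    rw [SetLike.mem_coe, mem_egn, hgt w hw, hw1, map_neg, hw1, neg_neg, hw1, map_neg]) (fun w hw => ht2 w hw.1)
  refine ⟨?_, ?_, ?_, ?_⟩ <;> omega

end Cfsg.Agent.R2.T2.Orb
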