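import Cfsg.Agent.R2.T2.Orb.Dec

/-!
# S5929, orbit box: the last case (helper2)

`L11` : if `W = ker p(T)` has the numbers `(d, d, 0)` and all irreducible factors of `p` have degree divisible by `d`, the
form is nondegenerate on `W` and there are no invariants, then there is no submodule of `W` without fixed vectors of `b0`.
-/

set_option autoImplicit false
set_option linter.unusedSectionVars false

namespace Cfsg.Agent.R2.T2.Orb

open Module Polynomial Equiv
open Cfsg.Agent.H943.RepAdd (subRep coe_subRep)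
open Cfsg.Agent.H952.F4 (ev)
open Cfsg.Agent.R2.T1.N6L (Mu)

universe u v

section

variable {F : Type u} [Field F] {E : Type v} [AddCommGroup E] [Module F E] [FiniteDimensional F E]
variable {ρ : Representation F ↥(alternatingGroup (Fin 6)) E}

/-- the submodule generated under `T` -/
def gen (T : Module.End F E) (S : Submodule F E) : Submodule F E := ⨆ n : ℕ, S.map (T ^ n)

theorem le_gen (T : Module.End F E) (S : Submodule F E) : S ≤ gen T S := by
  have h := le_iSup (fun n : ℕ => S.map (T ^ n)) 0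
  rw [pow_zero] at h
  intro x hx
  exact h ⟨x, hx, rfl⟩

theorem gen_le {T : Module.End F E} {S W : Submodule F E} (hS : S ≤ W) (hW : ∀ x ∈ W, T x ∈ W) : gen T S ≤ W := by
  refine iSup_le fun n => ?_
  rintro _ ⟨x, hx, rfl⟩
  induction n with
  | zero => exact hS hx
  | succ n ih => rw [pow_succ', Module.End.mul_apply]; exact hW _ ih

theorem map_gen_le {T f : Module.End F E} {S : Submodule F E} (hf : ∀ x, f (T x) = T (f x)) (h : S.map f ≤ S) :
    (gen T S).map f ≤ gen T S := by
  rw [gen, Submodule.map_iSup]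
  refine iSup_mono fun n => ?_
  rintro _ ⟨_, ⟨x, hx, rfl⟩, rfl⟩
  have h1 : ∀ (n : ℕ) (y : E), f ((T ^ n) y) = (T ^ n) (f y) := by
    intro n
    induction n with
    | zero => intro y; rfl
    | succ n ih => intro y; rw [pow_succ, Module.End.mul_apply, Module.End.mul_apply, ih, hf]
  rw [h1]
  exact ⟨f x, h ⟨x, hx, rfl⟩, rfl⟩

theorem le_map_gen {T f : Module.End F E} {S : Submodule F E} (hf : ∀ x, f (T x) = T (f x)) (h : S ≤ S.map f) :
    gen T S ≤ (gen T S).map f := by
  rw [gen, Submodule.map_iSup]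
  refine iSup_mono fun n => ?_
  rintro _ ⟨x, hx, rfl⟩
  have h1 : ∀ (n : ℕ) (y : E), f ((T ^ n) y) = (T ^ n) (f y) := by
    intro n
    induction n with
    | zero => intro y; rfl
    | succ n ih => intro y; rw [pow_succ, Module.End.mul_apply, Module.End.mul_apply, ih, hf]
  obtain ⟨y, hy, rfl⟩ := h hx
  exact ⟨(T ^ n) y, ⟨y, hy, rfl⟩, h1 n y⟩

theorem gen_stab (T : Module.End F E) (S : Submodule F E) : ∀ x ∈ gen T S, T x ∈ gen T S := by
  have h : (gen T S).map T ≤ gen T S := by
    rw [gen, Submodule.map_iSup]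
    refine iSup_le fun n => ?_
    refine le_trans ?_ (le_iSup (fun n : ℕ => S.map (T ^ n)) (n + 1))
    rintro _ ⟨_, ⟨x, hx, rfl⟩, rfl⟩
    refine ⟨x, hx, ?_⟩
    rw [pow_succ', Module.End.mul_apply]
  intro x hx
  exact h ⟨x, hx, rfl⟩

/-- dimension of the image of `g - 1` -/
theorem fr_map_sub (W : Submodule F E) (f : Module.End F E) :
    finrank F ↥(W.map (f - 1)) + finrank F ↥(W ⊓ eg f 1) = finrank F ↥W := by
  have h := LinearMap.finrank_range_add_finrank_ker ((f - 1).domRestrict W)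
  have h1 : LinearMap.range ((f - 1).domRestrict W) = W.map (f - 1) := by
    ext x
    constructor
    · rintro ⟨y, rfl⟩
      exact ⟨y, y.2, rfl⟩
    · rintro ⟨y, hy, rfl⟩
      exact ⟨⟨y, hy⟩, rfl⟩
  have h2 : finrank F ↥(LinearMap.ker ((f - 1).domRestrict W)) = finrank F ↥(W ⊓ eg f 1) := by
    have h3 : W ⊓ eg f 1 = (LinearMap.ker ((f - 1).domRestrict W)).map W.subtype := by
      ext x
      constructor
      · rintro ⟨hx, hx'⟩
        refine ⟨⟨x, hx⟩, ?_, rfl⟩
        rw [SetLike.mem_coe, LinearMap.mem_ker]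
        show (f - 1) x = 0
        rw [LinearMap.sub_apply, Module.End.one_apply, mem_eg1.1 hx', sub_self]
      · rintro ⟨y, hy, rfl⟩
        refine ⟨y.2, ?_⟩
        rw [SetLike.mem_coe, LinearMap.mem_ker] at hy
        have h4 : (f - 1) (y : E) = 0 := hy
        rw [LinearMap.sub_apply, Module.End.one_apply, sub_eq_zero] at h4
        exact mem_eg1.2 h4
    rw [h3, Submodule.finrank_map_subtype_eq]
  rw [← h1, ← h2]
  exact h

/-- a subspace of smaller dimension has a nonzero vector orthogonal to it -/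
theorem exists_perp (B : E →ₗ[F] E →ₗ[F] F) {T0 W : Submodule F E} (h : finrank F T0 < finrank F W) :
    ∃ y ∈ W, y ≠ 0 ∧ ∀ t ∈ T0, B t y = 0 := by
  let f : W →ₗ[F] Module.Dual F T0 :=
    { toFun := fun y => (B.flip y).comp T0.subtype
      map_add' := fun a b => by
        rw [Submodule.coe_add, map_add]
        rfl
      map_smul' := fun c a => by
        rw [Submodule.coe_smul, map_smul]
        rfl }
  have h1 : LinearMap.ker f ≠ ⊥ := by
    apply LinearMap.ker_ne_bot_of_finrank_lt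
    rw [Subspace.dual_finrank_eq]
    exact h
  obtain ⟨y, hy, hy0⟩ := (Submodule.ne_bot_iff _).1 h1
  refine ⟨y, y.2, fun h2 => hy0 (Subtype.ext h2), fun t ht => ?_⟩
  exact LinearMap.congr_fun (LinearMap.mem_ker.1 hy) ⟨t, ht⟩

/-- `A₆` is generated by the conjugates of `b0` -/
theorem all_of_b0 (N : Subgroup ↥(alternatingGroup (Fin 6))) [hN : N.Normal] (h : b0 ∈ N) : N = ⊤ := by
  have hs : IsSimpleGroup ↥(alternatingGroup (Fin 6)) := alternatingGroup.isSimpleGroup (by rw [Nat.card_fin]; norm_num)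
  rcases hs.eq_bot_or_eq_top_of_normal N hN with h1 | h1
  · rw [h1, Subgroup.mem_bot] at h
    exact absurd h (by decide)
  · exact h1

theorem L11 {d : ℕ} (hd0 : 0 < d) {T : Module.End F E} (hT : ∀ g x, ρ g (T x) = T (ρ g x)) {p q : F[X]}
    (hcop : IsCoprime p q) (htop : K T (p * q) = ⊤)
    (hfac : ∀ r : F[X], r.Monic → Irreducible r → r ∣ p → d ∣ r.natDegree) (B : E →ₗ[F] E →ₗ[F] F)
    (hB : ∀ g x y, B (ρ g x) (ρ g y) = B x y) (hnd : ∀ y, (∀ x, B x y = 0) → y = 0)
    (hadj : ∀ x y, B (aeval T p x) y = B x (aeval T p y)) (hinv : ∀ y, (∀ g, ρ g y = y) → y = 0)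
    (hnm : Nm ρ (K T p) d d 0) (hsub : ∀ W : Submodule F E, (∀ g, ∀ x ∈ W, ρ g x ∈ W) → ∃ C D k, Nm ρ W C D k)
    {S : Submodule F E} (hSW : S ≤ K T p) (hS0 : S ≠ ⊥) (hS : ∀ g, ∀ x ∈ S, ρ g x ∈ S)
    (hSb : S ⊓ eg (ρ b0) 1 = ⊥) : False := by
  -- orthogonality
  have horth : ∀ y ∈ K T p, (∀ x ∈ K T p, B x y = 0) → y = 0 := by
    intro y hy h
    refine hnd y fun x => ?_
    obtain ⟨a, b, hab⟩ := hcop
    have h1 : aeval T (a * p + b * q) x = x := by rw [hab, map_one, Module.End.one_apply]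
    rw [← h1, map_add, LinearMap.add_apply, map_add, LinearMap.add_apply, mul_comm a p, aeval_mul_apply, hadj,
      mem_K.1 hy, map_zero, zero_add]
    refine h _ ?_
    rw [mem_K, ← aeval_mul_apply, show p * (b * q) = b * (p * q) by ring, aeval_mul_apply]
    have h2 : x ∈ K T (p * q) := by rw [htop]; trivial
    rw [mem_K.1 h2, map_zero]
  set T0 := gen T S with hT0
  have hT0W : T0 ≤ K T p := gen_le hSW (K_stab T p)
  have hT0T : ∀ x ∈ T0, T x ∈ T0 := gen_stab T S
  have hT0g : ∀ g, ∀ x ∈ T0, ρ g x ∈ T0 := by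
    intro g x hx
    refine map_gen_le (hT g) ?_ ⟨x, hx, rfl⟩
    rintro _ ⟨y, hy, rfl⟩
    exact hS g y hy
  have hcomm1 : ∀ x, (ρ b0 - 1) (T x) = T ((ρ b0 - 1) x) := by
    intro x
    rw [LinearMap.sub_apply, LinearMap.sub_apply, Module.End.one_apply, Module.End.one_apply, hT, map_sub]
  -- `b0 - 1` is bijective on `S`
  have hS1 : S ≤ S.map (ρ b0 - 1) := by
    have h1 : S.map (ρ b0 - 1) ≤ S := by
      rintro _ ⟨y, hy, rfl⟩
      exact S.sub_mem (hS b0 y hy) hy
    have h2 := fr_map_sub S (ρ b0)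
    rw [hSb, finrank_bot, add_zero] at h2
    rw [Submodule.eq_of_le_of_finrank_eq h1 h2]
  have hT1 : T0 ≤ T0.map (ρ b0 - 1) := le_map_gen hcomm1 hS1
  have hT2 : T0.map (ρ b0 - 1) ≤ T0 := by
    rintro _ ⟨y, hy, rfl⟩
    exact T0.sub_mem (hT0g b0 y hy) hy
  have hT3 : finrank F ↥(T0 ⊓ eg (ρ b0) 1) = 0 := by
    have h2 := fr_map_sub T0 (ρ b0)
    rw [le_antisymm hT2 hT1] at h2
    omega
  obtain ⟨C, D, k, hn⟩ := hsub T0 hT0g
  have hC : C = 0 := by rw [← hn.fc, hT3]
  have hk : k = 0 := by have := hn.le; omega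
  obtain ⟨-, hD, -⟩ := nm_dvd hfac hT hT0W hT0T hn
  have hdim := hn.dim
  have hT00 : finrank F ↥T0 ≠ 0 := by
    intro h
    apply hS0
    rw [eq_bot_iff, ← Submodule.finrank_eq_zero.1 h]
    exact le_gen T S
  have hDd : d ≤ D := Nat.le_of_dvd (by omega) hD
  -- `T0 = (b0 - 1) W`
  have hW1 := fr_map_sub (K T p) (ρ b0)
  rw [hnm.fc, hnm.dim] at hW1
  have hle : T0 ≤ (K T p).map (ρ b0 - 1) := hT1.trans (Submodule.map_mono hT0W)
  have heq : T0 = (K T p).map (ρ b0 - 1) := Submodule.eq_of_le_of_finrank_le hle (by omega)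
  have hlt : finrank F ↥T0 < finrank F ↥(K T p) := by
    rw [heq, hnm.dim]
    omega
  -- the action on `W / T0` is trivial
  let N : Subgroup ↥(alternatingGroup (Fin 6)) :=
    { carrier := {g | ∀ w ∈ K T p, ρ g w - w ∈ T0}
      one_mem' := fun w _ => by rw [map_one, Module.End.one_apply, sub_self]; exact T0.zero_mem
      mul_mem' := by
        intro a b ha hb w hw
        rw [map_mul, Module.End.mul_apply]
        have h1 := ha _ (K_comm (hT b) p w hw)
        have h2 := T0.add_mem h1 (hb w hw)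
        rwa [sub_add_sub_cancel] at h2
      inv_mem' := by
        intro a ha w hw
        have h1 := ha _ (K_comm (hT a⁻¹) p w hw)
        rw [← Module.End.mul_apply, ← map_mul, mul_inv_cancel, map_one, Module.End.one_apply] at h1
        have h2 := T0.neg_mem h1
        rwa [neg_sub] at h2 }
  have hN : N.Normal := by
    constructor
    intro n hn g w hw
    rw [map_mul, map_mul, Module.End.mul_apply, Module.End.mul_apply]
    have h1 := hT0g g _ (hn _ (K_comm (hT g⁻¹) p w hw))
    rw [map_sub] at h1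
    have h3 : ρ g (ρ g⁻¹ w) = w := by
      rw [← Module.End.mul_apply, ← map_mul, mul_inv_cancel, map_one, Module.End.one_apply]
    rwa [h3] at h1
  have hNt := all_of_b0 N (by
    intro w hw
    rw [heq]
    exact ⟨w, hw, by rw [LinearMap.sub_apply, Module.End.one_apply]⟩)
  have hNt' : ∀ g, ∀ w ∈ K T p, ρ g w - w ∈ T0 := by
    intro g
    have h1 : g ∈ N := by rw [hNt]; trivial
    exact h1
  obtain ⟨y, hy, hy0, hyt⟩ := exists_perp B hlt
  apply hy0
  refine hinv y fun g => ?_
  rw [← sub_eq_zero]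
  refine horth _ ((K T p).sub_mem (K_comm (hT g) p y hy) hy) fun x hx => ?_
  have h1 : B x (ρ g y) = B (ρ g⁻¹ x) y := by
    rw [← hB g⁻¹ x (ρ g y), ← Module.End.mul_apply (ρ g⁻¹), ← map_mul, inv_mul_cancel, map_one, Module.End.one_apply]
  rw [map_sub, h1, ← LinearMap.sub_apply, ← map_sub]
  exact hyt _ (hNt' g⁻¹ x hx)

end

end Cfsg.Agent.R2.T2.Orb
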