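import Cfsg.Agent.R2.T2.Orb.Ext

/-!
# S5929, orbit box: the multiplicity step for `p = 3` (helper2)
-/

set_option autoImplicit false
set_option linter.unusedSectionVars false

namespace Cfsg.Agent.R2.T2.Orb

open Module Polynomial Equiv
open Cfsg.Agent.H943.RepAdd (subRep coe_subRep)
open Cfsg.Agent.H952.F4 (ev)
open Cfsg.Agent.R2.T1.N6L (Mu)

universe u v

section poly

variable {F : Type u} [Field F]

theorem cop_X {r : F[X]} (h : r.coeff 0 ≠ 0) : IsCoprime X r := by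
  rw [Irreducible.coprime_iff_not_dvd irreducible_X, X_dvd_iff]
  exact h

theorem cop_pm (h2 : (2 : F) ≠ 0) {c : F} (hc : c ≠ 0) : IsCoprime (X ^ 4 - C c : F[X]) (X ^ 4 + C c) := by
  refine ⟨C (-(2 * c)⁻¹), C (2 * c)⁻¹, ?_⟩
  have h : (2 * c)⁻¹ * (2 * c) = 1 := inv_mul_cancel₀ (mul_ne_zero h2 hc)
  have h3 : C ((2 * c)⁻¹) * (C 2 * C c) = (1 : F[X]) := by rw [← C_mul, ← C_mul, h, C_1]
  rw [show (C 2 : F[X]) = 2 from rfl] at h3
  rw [C_neg]
  linear_combination h3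

end poly

section

variable {F : Type u} [Field F] {E : Type v} [AddCommGroup E] [Module F E] [FiniteDimensional F E]
variable {ρ : Representation F ↥(alternatingGroup (Fin 6)) E}

/-- a submodule without fixed vectors of `b0` -/
theorem small_sub (h2 : (2 : F) ≠ 0) {i : F} (hi : i * i = -1) {τ : F} {a : ↥(alternatingGroup (Fin 6))}
    (hinv : ∀ y, (∀ g, ρ g y = y) → y = 0) {W : Submodule F E} (hW : ∀ g, ∀ x ∈ W, ρ g x ∈ W) {C D : ℕ}
    (hnm : Nm ρ W C D 0) {W' : Submodule F ↥W} (hW' : ∀ g, ∀ x ∈ W', subRep ρ W hW g x ∈ W') (hW0 : W' ≠ ⊥)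
    {n na nb m l : ℕ} (hs : n + na + nb + m + l = 1) (hmu : Mu (subRep (subRep ρ W hW) W' hW') τ a n na nb m l) :
    ∃ S ≤ W, S ≠ ⊥ ∧ (∀ g, ∀ x ∈ S, ρ g x ∈ S) ∧ S ⊓ eg (ρ b0) 1 = ⊥ := by
  have hn := nm_mu h2 hi hW' hmu
  have hk : na + nb + l = 0 := by
    rw [← hn.fk, Submodule.finrank_eq_zero, eq_bot_iff]
    rintro x ⟨-, hx1, hx2⟩
    have h1 := hnm.fk
    rw [Submodule.finrank_eq_zero] at h1
    rw [SetLike.mem_coe, mem_eg] at hx1 hx2
    have h3 : (x : E) ∈ W ⊓ (eg (ρ b0) 1 ⊓ eg (ρ t0) (-1)) :=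
      ⟨x.2, mem_eg.2 (congrArg Subtype.val hx1), mem_eg.2 (congrArg Subtype.val hx2)⟩
    rw [h1, Submodule.mem_bot] at h3
    exact (Submodule.mem_bot F).2 (Subtype.ext h3)
  have hn0 : n = 0 := by
    by_contra hne
    have h1 := hmu.press
    have h3 : finrank F ↥(Representation.invariants (subRep (subRep ρ W hW) W' hW')) ≠ 0 := by omega
    apply h3
    rw [Submodule.finrank_eq_zero, eq_bot_iff]
    intro x hx
    have h4 : ((x : ↥W) : E) = 0 := by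
      refine hinv _ fun g => ?_
      exact congrArg (fun z : ↥W' => ((z : ↥W) : E)) (hx g)
    exact (Submodule.mem_bot F).2 (Subtype.ext (Subtype.ext h4))
  have hfc := hn.fc
  rw [show n + na + nb + 3 * l = 0 by omega, Submodule.finrank_eq_zero] at hfc
  refine ⟨W'.map W.subtype, Submodule.map_subtype_le W W', ?_, ?_, ?_⟩
  · obtain ⟨x, hx, hx0⟩ := (Submodule.ne_bot_iff _).1 hW0
    exact (Submodule.ne_bot_iff _).2 ⟨x, ⟨x, hx, rfl⟩, fun h => hx0 (Subtype.ext h)⟩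
  · rintro g _ ⟨x, hx, rfl⟩
    exact ⟨subRep ρ W hW g x, hW' g x hx, rfl⟩
  · rw [eq_bot_iff]
    rintro _ ⟨⟨x, hx, rfl⟩, hx1⟩
    rw [SetLike.mem_coe, mem_eg] at hx1
    have h3 : x ∈ W' ⊓ eg (subRep ρ W hW b0) 1 := ⟨hx, mem_eg.2 (Subtype.ext hx1)⟩
    rw [hfc, Submodule.mem_bot] at h3
    rw [h3]
    exact Submodule.zero_mem _

/-- the numbers of a submodule, with the pressure -/
theorem nm_press (h2 : (2 : F) ≠ 0) {i : F} (hi : i * i = -1) {τ : F} {a : ↥(alternatingGroup (Fin 6))}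
    (hinv : ∀ y, (∀ g, ρ g y = y) → y = 0)
    (hmu : ∀ (W : Submodule F E) (hW : ∀ g, ∀ x ∈ W, ρ g x ∈ W), ∃ n na nb m l, Mu (subRep ρ W hW) τ a n na nb m l)
    {W : Submodule F E} (hW : ∀ g, ∀ x ∈ W, ρ g x ∈ W) : ∃ C D k, Nm ρ W C D k ∧ C ≤ k + 2 * D := by
  obtain ⟨n, na, nb, m, l, h⟩ := hmu W hW
  refine ⟨_, _, _, nm_mu h2 hi hW h, ?_⟩
  have h1 := h.press
  have h3 : finrank F ↥(Representation.invariants (subRep ρ W hW)) = 0 := by
    rw [Submodule.finrank_eq_zero, eq_bot_iff]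
    intro x hx
    have h4 : (x : E) = 0 := by
      refine hinv _ fun g => ?_
      exact congrArg Subtype.val (hx g)
    exact (Submodule.mem_bot F).2 (Subtype.ext h4)
  omega

/-- the trace of `T ^ 4` -/
theorem trace_four [CharP F 3] (h2 : (2 : F) ≠ 0) {T : Module.End F E} {c : F} (hc : c ≠ 0)
    (h : K T (X * ((X ^ 4 - C c) * (X ^ 4 + C c))) = ⊤) (htr : LinearMap.trace F E (T ^ 4) = 0) :
    finrank F ↥(K T (X ^ 4 - C c)) % 3 = finrank F ↥(K T (X ^ 4 + C c)) % 3 := by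
  have hz : ∀ x, aeval T (X * ((X ^ 4 - C c) * (X ^ 4 + C c))) x = 0 := by
    intro x
    have h1 : x ∈ K T (X * ((X ^ 4 - C c) * (X ^ 4 + C c))) := by rw [h]; trivial
    exact h1
  have h2c : (2 * c)⁻¹ * (2 * c) = 1 := inv_mul_cancel₀ (mul_ne_zero h2 hc)
  have p1 : LinearMap.IsProj (K T (X ^ 4 - C c)) (aeval T (C ((2 * c ^ 2)⁻¹) * (X ^ 4 * (X ^ 4 + C c)))) := by
    constructor
    · intro x
      rw [mem_K, ← aeval_mul_apply, show (X ^ 4 - C c) * (C ((2 * c ^ 2)⁻¹) * (X ^ 4 * (X ^ 4 + C c))) =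
        (C ((2 * c ^ 2)⁻¹) * X ^ 3) * (X * ((X ^ 4 - C c) * (X ^ 4 + C c))) by ring, aeval_mul_apply, hz, map_zero]
    · intro x hx
      have h1 : aeval T (C ((2 * c ^ 2)⁻¹) * (X ^ 4 * (X ^ 4 + C c))) x =
          aeval T ((C ((2 * c ^ 2)⁻¹) * (X ^ 4 + C (2 * c))) * (X ^ 4 - C c) + C 1) x := by
        congr 2
        have h3 : C ((2 * c ^ 2)⁻¹) * C (2 * c ^ 2) = (1 : F[X]) := by
          rw [← C_mul, inv_mul_cancel₀ (mul_ne_zero h2 (pow_ne_zero 2 hc)), C_1]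
        rw [C_mul, C_pow] at h3
        rw [C_mul, C_1]
        rw [show (C 2 : F[X]) = 2 from rfl] at h3 ⊢
        linear_combination h3
      rw [h1, map_add, LinearMap.add_apply, aeval_mul_apply, mem_K.1 hx, map_zero, zero_add, C_1, map_one,
        Module.End.one_apply]
  have p2 : LinearMap.IsProj (K T (X ^ 4 + C c)) (aeval T (C ((2 * c ^ 2)⁻¹) * (X ^ 4 * (X ^ 4 - C c)))) := by
    constructor
    · intro x
      rw [mem_K, ← aeval_mul_apply, show (X ^ 4 + C c) * (C ((2 * c ^ 2)⁻¹) * (X ^ 4 * (X ^ 4 - C c))) =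
        (C ((2 * c ^ 2)⁻¹) * X ^ 3) * (X * ((X ^ 4 - C c) * (X ^ 4 + C c))) by ring, aeval_mul_apply, hz, map_zero]
    · intro x hx
      have h1 : aeval T (C ((2 * c ^ 2)⁻¹) * (X ^ 4 * (X ^ 4 - C c))) x =
          aeval T ((C ((2 * c ^ 2)⁻¹) * (X ^ 4 - C (2 * c))) * (X ^ 4 + C c) + C 1) x := by
        congr 2
        have h3 : C ((2 * c ^ 2)⁻¹) * C (2 * c ^ 2) = (1 : F[X]) := by
          rw [← C_mul, inv_mul_cancel₀ (mul_ne_zero h2 (pow_ne_zero 2 hc)), C_1]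
        rw [C_mul, C_pow] at h3
        rw [C_mul, C_1]
        rw [show (C 2 : F[X]) = 2 from rfl] at h3 ⊢
        linear_combination h3
      rw [h1, map_add, LinearMap.add_apply, aeval_mul_apply, mem_K.1 hx, map_zero, zero_add, C_1, map_one,
        Module.End.one_apply]
  have hT4 : T ^ 4 = c • aeval T (C ((2 * c ^ 2)⁻¹) * (X ^ 4 * (X ^ 4 + C c))) -
      c • aeval T (C ((2 * c ^ 2)⁻¹) * (X ^ 4 * (X ^ 4 - C c))) := by
    have h1 : (X : F[X]) ^ 4 = C c * (C ((2 * c ^ 2)⁻¹) * (X ^ 4 * (X ^ 4 + C c))) -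
        C c * (C ((2 * c ^ 2)⁻¹) * (X ^ 4 * (X ^ 4 - C c))) := by
      have h3 : C ((2 * c ^ 2)⁻¹) * C (2 * c ^ 2) = (1 : F[X]) := by
        rw [← C_mul, inv_mul_cancel₀ (mul_ne_zero h2 (pow_ne_zero 2 hc)), C_1]
      rw [C_mul, C_pow] at h3
      rw [show (C 2 : F[X]) = 2 from rfl] at h3
      linear_combination -X ^ 4 * h3
    have h4 := congrArg (aeval T) h1
    rw [map_sub, map_mul _ (C c), map_mul _ (C c), aeval_C, map_pow, aeval_X, ← Algebra.smul_def, ← Algebra.smul_def] at h4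
    exact h4
  rw [hT4, map_sub, map_smul, map_smul, p1.trace, p2.trace, ← smul_sub, smul_eq_zero] at htr
  have h5 := htr.resolve_left hc
  rw [sub_eq_zero] at h5
  exact (CharP.natCast_eq_natCast F 3).1 h5

/-- the kernel of the identity polynomial -/
theorem K_X (T : Module.End F E) : K T X = LinearMap.ker T := by rw [K, aeval_X]

theorem adj_pow {B : E →ₗ[F] E →ₗ[F] F} {T : Module.End F E} (h : ∀ x y, B (T x) y = - B x (T y)) :
    ∀ (n : ℕ) (x y : E), B ((T ^ (2 * n)) x) y = B x ((T ^ (2 * n)) y) := by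
  intro n
  induction n with
  | zero => intro x y; rfl
  | succ n ih =>
    intro x y
    rw [show 2 * (n + 1) = 2 * n + 2 by ring, pow_add, Module.End.mul_apply, ih, pow_two, Module.End.mul_apply, h, h,
      neg_neg, ← Module.End.mul_apply, ← pow_two, ← Module.End.mul_apply, ← pow_add, ← pow_add, add_comm]

theorem adj_poly {B : E →ₗ[F] E →ₗ[F] F} {T : Module.End F E} (h : ∀ x y, B (T x) y = - B x (T y)) (n : ℕ) (c : F)
    (x y : E) : B (aeval T (X ^ (2 * n) - C c) x) y = B x (aeval T (X ^ (2 * n) - C c) y) := by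
  rw [map_sub, map_pow, aeval_X, aeval_C, LinearMap.sub_apply, LinearMap.sub_apply, Module.algebraMap_end_apply,
    Module.algebraMap_end_apply, map_sub, map_sub, LinearMap.sub_apply, map_smul, map_smul, LinearMap.smul_apply,
    adj_pow h]

/-- **the multiplicity step** -/
theorem last [Finite F] [CharP F 3] (h2 : (2 : F) ≠ 0) (hF : Nat.card F = 9) {i : F} (hi : i * i = -1) {τ : F}
    {a : ↥(alternatingGroup (Fin 6))} {T : Module.End F E} (hT : ∀ g x, ρ g (T x) = T (ρ g x)) (hdim : finrank F E = 56)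
    (hinv : ∀ y, (∀ g, ρ g y = y) → y = 0) (hker : finrank F ↥(LinearMap.ker T) < 32)
    (htr : LinearMap.trace F E (T ^ 4) = 0) (B : E →ₗ[F] E →ₗ[F] F) (hB : ∀ g x y, B (ρ g x) (ρ g y) = B x y)
    (hnd : ∀ y, (∀ x, B x y = 0) → y = 0) (hskew : ∀ x y, B (T x) y = - B x (T y))
    (hrel : (∃ l : F, T ^ 9 = l • T ∧ (l ^ 2 = -1 ∨ l ^ 4 = -1)) ∨
      (∃ a b c : ZMod 3, (∀ x : ZMod 3, x ^ 3 + a * x ^ 2 + b * x + c ≠ 0) ∧
        T ^ 729 + (a.cast : F) • T ^ 81 + (b.cast : F) • T ^ 9 + (c.cast : F) • T = 0))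
    (hmu : ∀ (W : Submodule F E) (hW : ∀ g, ∀ x ∈ W, ρ g x ∈ W), ∃ n na nb m l, Mu (subRep ρ W hW) τ a n na nb m l)
    (hsim : ∀ (W : Submodule F E) (hW : ∀ g, ∀ x ∈ W, ρ g x ∈ W), W ≠ ⊥ → ∃ (W' : Submodule F ↥W)
      (hW' : ∀ g, ∀ x ∈ W', subRep ρ W hW g x ∈ W'), W' ≠ ⊥ ∧ ∃ n na nb m l, n + na + nb + m + l = 1 ∧
        Mu (subRep (subRep ρ W hW) W' hW') τ a n na nb m l)
    {b : ↥(alternatingGroup (Fin 6))} (hb : orderOf b = 4) (hd : (ev (ρ (b * b)) 1 = 24 ∧ ev (ρ b) 1 = 12) ∨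
      (ev (ρ (b * b)) 1 = 32 ∧ ev (ρ b) 1 = 12)) : False := by
  have hK : ∀ p, ∀ g, ∀ x ∈ K T p, ρ g x ∈ K T p := fun p g => K_comm (hT g) p
  have hnp : ∀ {W : Submodule F E} (_ : ∀ g, ∀ x ∈ W, ρ g x ∈ W), ∃ C D k, Nm ρ W C D k ∧ C ≤ k + 2 * D :=
    fun hW => nm_press h2 hi hinv hmu hW
  have hsub : ∀ W : Submodule F E, (∀ g, ∀ x ∈ W, ρ g x ∈ W) → ∃ C D k, Nm ρ W C D k := fun W hW => by
    obtain ⟨C, D, k, h, -⟩ := hnp hW
    exact ⟨C, D, k, h⟩
  -- the numbers of the module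
  have htot : ∀ {W : Submodule F E} (_ : W = ⊤) {C D k : ℕ}, Nm ρ W C D k →
      (C = 12 ∧ D = 6 ∧ k = 10) ∨ (C = 12 ∧ D = 10 ∧ k = 2) := by
    rintro W rfl C D k hn
    have htT : ∀ g, ∀ x ∈ (⊤ : Submodule F E), ρ g x ∈ (⊤ : Submodule F E) := fun _ _ _ => trivial
    obtain ⟨n, na, nb, m, l, hmu1⟩ := hmu ⊤ htT
    have hn1 := nm_mu h2 hi htT hmu1
    have e1 := hmu1.four b hb
    have e2 := hmu1.two (b * b) (by
      rw [← pow_two, orderOf_pow, hb]; rfl)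
    have e3 := hmu1.dim
    have ht : finrank F ↥(⊤ : Submodule F E) = 56 := by rw [finrank_top, hdim]
    rw [ev_sub htT, top_inf_eq] at e1 e2
    have f1 := hn.fc
    have f2 := hn.fe
    have f3 := hn.fk
    rw [hn1.fc] at f1
    rw [hn1.fe] at f2
    rw [hn1.fk] at f3
    rw [ht] at e3
    rcases hd with ⟨d1, d2⟩ | ⟨d1, d2⟩
    · rw [ev] at d1 d2
      rw [d1] at e2
      rw [d2] at e1
      left
      omega
    · rw [ev] at d1 d2
      rw [d1] at e2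
      rw [d2] at e1
      right
      omega
  have hfin : ∀ {d : ℕ} (_ : 0 < d) {p q : F[X]} (_ : IsCoprime p q) (_ : K T (p * q) = ⊤)
      (_ : ∀ r : F[X], r.Monic → Irreducible r → r ∣ p → d ∣ r.natDegree)
      (_ : ∀ x y, B (aeval T p x) y = B x (aeval T p y)) (_ : Nm ρ (K T p) d d 0), False := by
    intro d hd0 p q hcop htop hfac hadj hnm
    have hW0 : K T p ≠ ⊥ := by
      intro h
      have h1 := hnm.dim
      rw [h, finrank_bot] at h1
      omega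
    obtain ⟨W', hW', hW0', n, na, nb, m, l, hs, hmu1⟩ := hsim (K T p) (hK p) hW0
    obtain ⟨S, hSW, hS0, hS, hSb⟩ := small_sub h2 hi hinv (hK p) hnm hW' hW0' hs hmu1
    exact L11 hd0 hT hcop htop hfac B hB hnd hadj hinv hnm hsub hSW hS0 hS hSb
  obtain ⟨C0, D0, k0, n0, pr0⟩ := hnp (hK X)
  have hdim0 := n0.dim
  rw [K_X] at hdim0
  rcases hrel with ⟨l, hl, hl' | hl'⟩ | ⟨a', b', c', hirr, hrel⟩
  · -- `l ^ 2 = -1`
    obtain ⟨μ, hμ⟩ : ∃ μ : F, μ ^ 2 = l := by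
      refine ⟨1 - l, ?_⟩
      have h3 : (3 : F) = 0 := by
        have := CharP.cast_eq_zero F 3
        exact_mod_cast this
      linear_combination hl' - l * h3
    have hμ4 : μ ^ 4 = -1 := by rw [← hl', ← hμ]; ring
    have hμ0 : μ ≠ 0 := by
      rintro rfl
      norm_num at hμ4
    have hμ4' : (-μ) ^ 4 = -1 := by rw [← hμ4]; ring
    have hC : (X ^ 4 + C μ : F[X]) = X ^ 4 - C (-μ) := by rw [C_neg, sub_neg_eq_add]
    have htop : K T (X * ((X ^ 4 - C μ) * (X ^ 4 + C μ))) = ⊤ := by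
      rw [eq_top_iff]
      intro x _
      rw [mem_K, show (X * ((X ^ 4 - C μ) * (X ^ 4 + C μ)) : F[X]) = X ^ 9 - C l * X by rw [← hμ, C_pow]; ring,
        map_sub, map_mul, map_pow, aeval_X, aeval_C, ← Algebra.smul_def, hl, sub_self, LinearMap.zero_apply]
    have cop1 : IsCoprime X ((X ^ 4 - C μ) * (X ^ 4 + C μ)) := cop_X (by
      rw [show ((X ^ 4 - C μ) * (X ^ 4 + C μ) : F[X]) = X ^ 8 - C (μ ^ 2) by rw [C_pow]; ring, coeff_sub, coeff_C_zero,
        coeff_X_pow, if_neg (by norm_num), zero_sub]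
      exact neg_ne_zero.2 (pow_ne_zero 2 hμ0))
    have cop2 : IsCoprime (X ^ 4 - C μ) (X ^ 4 + C μ) := cop_pm h2 hμ0
    obtain ⟨C3, D3, k3, n3⟩ := hsub _ (hK (X * ((X ^ 4 - C μ) * (X ^ 4 + C μ))))
    obtain ⟨C4, D4, k4, n4⟩ := hsub _ (hK ((X ^ 4 - C μ) * (X ^ 4 + C μ)))
    obtain ⟨C1, D1, k1, n1, pr1⟩ := hnp (hK (X ^ 4 - C μ))
    obtain ⟨C2, D2, k2, n2, pr2⟩ := hnp (hK (X ^ 4 + C μ))
    obtain ⟨a1, a2, a3⟩ := nm_add hT cop1 n3 n0 n4
    obtain ⟨a4, a5, a6⟩ := nm_add hT cop2 n4 n1 n2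
    have hf1 : ∀ r : F[X], r.Monic → Irreducible r → r ∣ (X ^ 4 - C μ) → 4 ∣ r.natDegree :=
      fun r _ hr h => deg4 hF h2 hμ4 hr h
    have hf2 : ∀ r : F[X], r.Monic → Irreducible r → r ∣ (X ^ 4 + C μ) → 4 ∣ r.natDegree :=
      fun r _ hr h => deg4 hF h2 hμ4' hr (by rw [← hC]; exact h)
    obtain ⟨⟨x1, b1⟩, ⟨y1, b2⟩, ⟨z1, b3⟩⟩ := nm_dvd hf1 hT le_rfl (K_stab T _) n1
    obtain ⟨⟨x2, b4⟩, ⟨y2, b5⟩, ⟨z2, b6⟩⟩ := nm_dvd hf2 hT le_rfl (K_stab T _) n2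
    have htr4 := trace_four h2 hμ0 htop htr
    rw [n1.dim, n2.dim] at htr4
    have l0 := n0.le
    have l1 := n1.le
    have l2 := n2.le
    have key : C1 = 4 ∧ D1 = 4 ∧ k1 = 0 := by
      subst b1 b2 b3 b4 b5 b6
      rcases htot htop n3 with ⟨t1, t2, t3⟩ | ⟨t1, t2, t3⟩
      · exfalso
        have u1 : z1 ≤ x1 := by omega
        have u2 : z2 ≤ x2 := by omega
        have u3 : x1 + x2 ≤ z1 + z2 := by omega
        obtain rfl : x1 = z1 := by omega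
        obtain rfl : x2 = z2 := by omega
        have u6 : y1 + y2 = 1 := by omega
        obtain ⟨rfl, rfl⟩ | ⟨rfl, rfl⟩ : (y1 = 0 ∧ y2 = 1) ∨ (y1 = 1 ∧ y2 = 0) := by omega
        · omega
        · omega
      · obtain rfl : z1 = 0 := by omega
        obtain rfl : z2 = 0 := by omega
        have u1 : x1 + x2 ≤ 2 := by omega
        have u2 : y1 + y2 = 2 := by omega
        have u3 : x1 + x2 = 2 := by omega
        obtain rfl : x2 = 2 - x1 := by omega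
        obtain rfl : y2 = 2 - y1 := by omega
        have u4 : y1 ≤ 2 := by omega
        have u5 : x1 ≤ 2 := by omega
        interval_cases y1 <;> interval_cases x1 <;> omega
    obtain ⟨rfl, rfl, rfl⟩ := key
    refine hfin (d := 4) (by norm_num) (p := X ^ 4 - C μ) (q := X * (X ^ 4 + C μ)) ?_ ?_ hf1 ?_ n1
    · exact IsCoprime.mul_right (cop1.symm.of_mul_left_left) cop2
    · rw [← htop]; congr 1; ring
    · intro x y
      exact adj_poly hskew 2 μ x y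
  · -- `l ^ 4 = -1`
    have hl0 : l ≠ 0 := by
      rintro rfl
      norm_num at hl'
    have htop : K T (X * (X ^ 8 - C l)) = ⊤ := by
      rw [eq_top_iff]
      intro x _
      rw [mem_K, show (X * (X ^ 8 - C l) : F[X]) = X ^ 9 - C l * X by ring,
        map_sub, map_mul, map_pow, aeval_X, aeval_C, ← Algebra.smul_def, hl, sub_self, LinearMap.zero_apply]
    have cop1 : IsCoprime X (X ^ 8 - C l) := cop_X (by
      rw [coeff_sub, coeff_C_zero, coeff_X_pow, if_neg (by norm_num), zero_sub]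
      exact neg_ne_zero.2 hl0)
    obtain ⟨C3, D3, k3, n3⟩ := hsub _ (hK (X * (X ^ 8 - C l)))
    obtain ⟨C1, D1, k1, n1, pr1⟩ := hnp (hK (X ^ 8 - C l))
    obtain ⟨a1, a2, a3⟩ := nm_add hT cop1 n3 n0 n1
    have hf1 : ∀ r : F[X], r.Monic → Irreducible r → r ∣ (X ^ 8 - C l) → 8 ∣ r.natDegree :=
      fun r _ hr h => deg8 hF h2 hl' hr h
    obtain ⟨⟨x1, b1⟩, ⟨y1, b2⟩, ⟨z1, b3⟩⟩ := nm_dvd hf1 hT le_rfl (K_stab T _) n1
    have l0 := n0.le
    have l1 := n1.le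
    have key : C1 = 8 ∧ D1 = 8 ∧ k1 = 0 := by
      rcases htot htop n3 with ⟨t1, t2, t3⟩ | ⟨t1, t2, t3⟩
      · exfalso
        omega
      · omega
    obtain ⟨rfl, rfl, rfl⟩ := key
    refine hfin (d := 8) (by norm_num) (p := X ^ 8 - C l) (q := X) cop1.symm ?_ hf1 ?_ n1
    · rw [← htop]; congr 1; ring
    · intro x y
      exact adj_poly hskew 4 l x y
  · -- the cubic polynomial
    set r : F[X] := X ^ 728 + C (a'.cast : F) * X ^ 80 + C (b'.cast : F) * X ^ 8 + C (c'.cast : F) with hr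
    have hc0 : (c'.cast : F) ≠ 0 := by
      intro h
      have h1 : c' = 0 := by
        have : Fact (Nat.Prime 3) := ⟨by norm_num⟩
        apply (ZMod.castHom (dvd_refl 3) F).injective
        rw [map_zero, ZMod.castHom_apply, h]
      exact hirr 0 (by rw [h1]; ring)
    have htop : K T (X * r) = ⊤ := by
      rw [eq_top_iff]
      intro x _
      rw [mem_K, show (X * r : F[X]) = X ^ 729 + C (a'.cast : F) * X ^ 81 + C (b'.cast : F) * X ^ 9 +
        C (c'.cast : F) * X by rw [hr]; ring, map_add, map_add, map_add, map_mul, map_mul, map_mul, map_pow, map_pow, map_pow,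
        aeval_X, aeval_C, aeval_C, aeval_C, ← Algebra.smul_def, ← Algebra.smul_def, ← Algebra.smul_def, hrel,
        LinearMap.zero_apply]
    have cop1 : IsCoprime X r := cop_X (by
      rw [hr]
      simpa using hc0)
    obtain ⟨C3, D3, k3, n3⟩ := hsub _ (hK (X * r))
    obtain ⟨C1, D1, k1, n1, pr1⟩ := hnp (hK r)
    obtain ⟨a1, a2, a3⟩ := nm_add hT cop1 n3 n0 n1
    have hf1 : ∀ s : F[X], s.Monic → Irreducible s → s ∣ r → 13 ∣ s.natDegree :=
      fun s _ hs h => deg13 hF hirr hs h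
    obtain ⟨⟨x1, b1⟩, ⟨y1, b2⟩, ⟨z1, b3⟩⟩ := nm_dvd hf1 hT le_rfl (K_stab T _) n1
    have l0 := n0.le
    have l1 := n1.le
    rcases htot htop n3 with ⟨t1, t2, t3⟩ | ⟨t1, t2, t3⟩
    · omega
    · omega

end

end Cfsg.Agent.R2.T2.Orb
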