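import Cfsg.Agent.R2.T2.Orb.Div

/-!
# S5929, orbit box: subspaces closed under the cube (helper2)

`skew` : a subspace `R ≠ 0` of dimension at most 3 (over the field with nine elements) of an algebra, closed under
`A ↦ A ^ 3`, without elements `A ≠ 0` with `A ^ 3 = a A`, contains `U ≠ 0` with `U ^ 9 = l U`, `l` of order 4 or 8, or with
`U ^ 729 + a U ^ 81 + b U ^ 9 + c U = 0`, `a, b, c ∈ 𝔽₃`, `x ^ 3 + a x ^ 2 + b x + c` irreducible over `𝔽₃`.
-/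

set_option autoImplicit false

namespace Cfsg.Agent.R2.T2.Orb

open Module

universe u v

section skew

set_option linter.unusedSectionVars false

variable {F : Type u} [Field F] [CharP F 3] {A : Type v} [Ring A] [Algebra F A] [CharP A 3]

omit [CharP F 3] in
theorem cube_two (U : A) (c d : F) (m n : ℕ) : (c • U ^ m + d • U ^ n) ^ 3 = c ^ 3 • U ^ (3 * m) + d ^ 3 • U ^ (3 * n) := by
  have : Fact (Nat.Prime 3) := ⟨by norm_num⟩
  rw [add_pow_char_of_commute _ ((((Commute.refl U).pow_pow m n).smul_left c).smul_right d), smul_pow, smul_pow, ← pow_mul,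
    ← pow_mul, mul_comm m, mul_comm n]

omit [CharP F 3] in
theorem cube_three (U : A) (c d e : F) (m n k : ℕ) : (c • U ^ m + d • U ^ n + e • U ^ k) ^ 3 =
    c ^ 3 • U ^ (3 * m) + d ^ 3 • U ^ (3 * n) + e ^ 3 • U ^ (3 * k) := by
  have : Fact (Nat.Prime 3) := ⟨by norm_num⟩
  rw [add_pow_char_of_commute _ (((((Commute.refl U).pow_pow m k).smul_left c).add_left
    (((Commute.refl U).pow_pow n k).smul_left d)).smul_right e), cube_two, smul_pow, ← pow_mul, mul_comm k]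

omit [CharP F 3] in
theorem nine_two (U : A) (c d : F) (m n : ℕ) : (c • U ^ m + d • U ^ n) ^ 9 = c ^ 9 • U ^ (9 * m) + d ^ 9 • U ^ (9 * n) := by
  rw [show 9 = 3 * 3 from rfl, pow_mul, cube_two, cube_two, ← pow_mul, ← pow_mul, mul_assoc, mul_assoc]

omit [CharP F 3] in
theorem nine_three (U : A) (c d e : F) (m n k : ℕ) : (c • U ^ m + d • U ^ n + e • U ^ k) ^ 9 =
    c ^ 9 • U ^ (9 * m) + d ^ 9 • U ^ (9 * n) + e ^ 9 • U ^ (9 * k) := by
  rw [show 9 = 3 * 3 from rfl, pow_mul, cube_three, cube_three, ← pow_mul, ← pow_mul, ← pow_mul, mul_assoc, mul_assoc,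
    mul_assoc]

variable {R : Submodule F A}

theorem pow_three_mem (hcl : ∀ B ∈ R, B ^ 3 ∈ R) {U : A} (hU : U ∈ R) : ∀ n : ℕ, U ^ 3 ^ n ∈ R
  | 0 => by rw [pow_zero, pow_one]; exact hU
  | n + 1 => by rw [pow_succ, pow_mul]; exact hcl _ (pow_three_mem hcl hU n)

theorem cube_cases {x : F} (h : x ^ 3 = x) : x = 0 ∨ x = 1 ∨ x = -1 := by
  have h1 : x * ((x - 1) * (x + 1)) = 0 := by linear_combination h
  rcases mul_eq_zero.1 h1 with h2 | h2
  · exact Or.inl h2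
  · rcases mul_eq_zero.1 h2 with h3 | h3
    · exact Or.inr (Or.inl (sub_eq_zero.1 h3))
    · exact Or.inr (Or.inr (eq_neg_of_add_eq_zero_left h3))

/-- the eigenvalues of `w ↦ w ^ 9` -/
theorem eigen_cases (h9 : ∀ x : F, x ^ 9 = x) {i : F} (hi : i * i = -1) (hcl : ∀ B ∈ R, B ^ 3 ∈ R)
    (h3 : ∀ B ∈ R, ∀ a : F, B ^ 3 = a • B → B = 0) {w : A} (hw : w ∈ R) (hw0 : w ≠ 0) {l : F} (h : w ^ 9 = l • w) :
    l ^ 2 = -1 ∨ l ^ 4 = -1 := by
  have hF3 : (3 : F) = 0 := by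
    have := CharP.cast_eq_zero F 3
    exact_mod_cast this
  have key : ∀ a : F, a ^ 4 ≠ l := by
    intro a ha
    have h4 : w ^ 3 + a • w ∈ R := R.add_mem (hcl w hw) (R.smul_mem _ hw)
    have h5 : (w ^ 3 + a • w) ^ 3 = a ^ 3 • (w ^ 3 + a • w) := by
      have h6 := cube_two w 1 a 3 1
      rw [one_smul, pow_one, one_pow, one_smul, show 3 * 3 = 9 from rfl, h] at h6
      rw [h6, smul_add, smul_smul, ← ha, add_comm, show 3 * 1 = 3 from rfl, ← pow_succ]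
    have h7 := h3 _ h4 _ h5
    exact hw0 (h3 w hw (-a) (by rw [neg_smul]; exact eq_neg_of_add_eq_zero_left h7))
  have h0 : l ≠ 0 := fun h0 => key 0 (by rw [h0]; norm_num)
  have h8 : l ^ 8 = 1 := by
    have h10 : l * l ^ 8 = l * 1 := by rw [← pow_succ', h9, mul_one]
    exact mul_left_cancel₀ h0 h10
  have e1 : (l ^ 4 - 1) * (l ^ 4 + 1) = 0 := by linear_combination h8
  rcases mul_eq_zero.1 e1 with e2 | e2
  · have e3 : (l ^ 2 - 1) * (l ^ 2 + 1) = 0 := by linear_combination e2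
    rcases mul_eq_zero.1 e3 with e4 | e4
    · exfalso
      have e5 : (l - 1) * (l + 1) = 0 := by linear_combination e4
      rcases mul_eq_zero.1 e5 with e6 | e6
      · exact key 1 (by linear_combination -e6)
      · exact key (1 + i) (by linear_combination (i ^ 2 + 4 * i + 5 ) * hi - e6 - hF3)
    · exact Or.inl (by linear_combination e4)
  · exact Or.inr (by linear_combination e2)

/-- a quadratic relation for `w ↦ w ^ 9` gives an eigenvector -/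
theorem exists_eigen (h9 : ∀ x : F, x ^ 9 = x) {i : F} (hi : i * i = -1) (hcl : ∀ B ∈ R, B ^ 3 ∈ R) {U : A} (hU : U ∈ R)
    (hU0 : U ≠ 0) {t d : F} (ht : t ^ 3 = t) (hd : d ^ 3 = d) (h : U ^ 81 = t • U ^ 9 - d • U) :
    ∃ w ∈ R, w ≠ 0 ∧ ∃ l : F, w ^ 9 = l • w := by
  have hF3 : (3 : F) = 0 := by
    have := CharP.cast_eq_zero F 3
    exact_mod_cast this
  obtain ⟨s, hs⟩ : ∃ s : F, s ^ 2 = t ^ 2 - d := by
    have h1 : (t ^ 2 - d) ^ 3 = t ^ 2 - d := by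
      linear_combination (t ^ 3 + t) * ht - hd + (t ^ 2 * d ^ 2 - t ^ 4 * d) * hF3
    rcases cube_cases h1 with h2 | h2 | h2
    · exact ⟨0, by rw [h2]; norm_num⟩
    · exact ⟨1, by rw [h2]; norm_num⟩
    · exact ⟨i, by rw [h2, pow_two, hi]⟩
  have hm9 : U ^ 9 ∈ R := pow_three_mem hcl hU 2
  have hw : U ^ 9 + (t - s) • U ∈ R := R.add_mem hm9 (R.smul_mem _ hU)
  by_cases h0 : U ^ 9 + (t - s) • U = 0
  · exact ⟨U, hU, hU0, s - t, by rw [← neg_sub t s, neg_smul]; exact eq_neg_of_add_eq_zero_left h0⟩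
  · refine ⟨_, hw, h0, -(t + s), ?_⟩
    have h1 := nine_two U (1 : F) (t - s) 9 1
    rw [one_smul, pow_one, one_pow, one_smul, show 9 * 9 = 81 from rfl, h, h9, show 9 * 1 = 9 from rfl] at h1
    rw [h1]
    have h2 : t • U ^ 9 - d • U + (t - s) • U ^ 9 - -(t + s) • (U ^ 9 + (t - s) • U) =
        (3 * t) • U ^ 9 + (-(s ^ 2 - (t ^ 2 - d))) • U := by
      module
    rw [← sub_eq_zero, h2, hF3, hs, sub_self, zero_mul, neg_zero, zero_smul, zero_smul, add_zero]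

theorem exists_cast {x : F} (h : x ^ 3 = x) : ∃ y : ZMod 3, (y.cast : F) = x := by
  rcases cube_cases h with rfl | rfl | rfl
  · exact ⟨0, by rw [← ZMod.castHom_apply (h := dvd_refl 3), map_zero]⟩
  · exact ⟨1, by rw [← ZMod.castHom_apply (h := dvd_refl 3), map_one]⟩
  · exact ⟨-1, by rw [← ZMod.castHom_apply (h := dvd_refl 3), map_neg, map_one]⟩

theorem z3_cube : ∀ y : ZMod 3, y ^ 3 = y := by decide

/-- the case `k = 3` -/
theorem skew3 (h9 : ∀ x : F, x ^ 9 = x) {i : F} (hi : i * i = -1) (hcl : ∀ B ∈ R, B ^ 3 ∈ R) {U : A} (hU : U ∈ R)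
    (hU0 : U ≠ 0) {α β γ : F} (h : U ^ 27 = α • U + β • U ^ 3 + γ • U ^ 9) :
    (∃ w ∈ R, w ≠ 0 ∧ ∃ l : F, w ^ 9 = l • w) ∨
    ∃ a b c : ZMod 3, (∀ x : ZMod 3, x ^ 3 + a * x ^ 2 + b * x + c ≠ 0) ∧
      U ^ 729 + (a.cast : F) • U ^ 81 + (b.cast : F) • U ^ 9 + (c.cast : F) • U = 0 := by
  have : Fact (Nat.Prime 3) := ⟨by norm_num⟩
  by_cases hE : ∃ w ∈ R, w ≠ 0 ∧ ∃ l : F, w ^ 9 = l • w
  · exact Or.inl hE
  refine Or.inr ?_
  have h12 : ∀ x : F, x ^ 12 = x ^ 4 := by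
    intro x
    rw [show 12 = 9 + 3 from rfl, pow_add, h9, ← pow_succ']
  have e81 : U ^ 81 = α ^ 3 • U ^ 3 + β ^ 3 • U ^ 9 + γ ^ 3 • U ^ 27 := by
    have h1 := cube_three U α β γ 1 3 9
    rw [pow_one, ← h, ← pow_mul] at h1
    exact h1
  have e243 : U ^ 243 = α • U ^ 9 + β • U ^ 27 + γ • U ^ 81 := by
    have h1 := nine_three U α β γ 1 3 9
    rw [pow_one, ← h, ← pow_mul, h9, h9, h9] at h1
    exact h1
  have e729 : U ^ 729 = α ^ 3 • U ^ 27 + β ^ 3 • U ^ 81 + γ ^ 3 • U ^ 243 := by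
    have h1 := cube_three U α β γ 9 27 81
    rw [← e243, ← pow_mul] at h1
    exact h1
  set a : F := -(β + β ^ 3 + γ ^ 4) with ha
  set b : F := β ^ 4 - α * γ ^ 3 - α ^ 3 * γ with hb
  set c : F := -α ^ 4 with hc
  have ha3 : a ^ 3 = a := by
    have h1 : (β + β ^ 3 + γ ^ 4) ^ 3 = β + β ^ 3 + γ ^ 4 := by
      rw [add_pow_char, add_pow_char, ← pow_mul, ← pow_mul, h9, h12]
      ring
    rw [ha, neg_pow, h1]; ring
  have hb3 : b ^ 3 = b := by
    rw [hb, sub_pow_char, sub_pow_char, mul_pow, mul_pow, ← pow_mul, ← pow_mul, ← pow_mul, h9, h9, h12]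
    ring
  have hc3 : c ^ 3 = c := by
    rw [hc, neg_pow, ← pow_mul, h12]; ring
  have hrel : U ^ 729 + a • U ^ 81 + b • U ^ 9 + c • U = 0 := by
    have e2 : a • U ^ 81 = -(β + γ ^ 4) • U ^ 81 - β ^ 3 • U ^ 81 := by rw [ha]; module
    rw [e729, e243, ha, hb, hc]
    have e3 : α ^ 3 • U ^ 27 + β ^ 3 • U ^ 81 + γ ^ 3 • (α • U ^ 9 + β • U ^ 27 + γ • U ^ 81) +
        -(β + β ^ 3 + γ ^ 4) • U ^ 81 + (β ^ 4 - α * γ ^ 3 - α ^ 3 * γ) • U ^ 9 + -α ^ 4 • U =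
        (α ^ 3 + γ ^ 3 * β) • U ^ 27 + (-β) • U ^ 81 + (β ^ 4 - α ^ 3 * γ) • U ^ 9 + -α ^ 4 • U := by module
    rw [e3, e81]
    have e4 : (α ^ 3 + γ ^ 3 * β) • U ^ 27 + -β • (α ^ 3 • U ^ 3 + β ^ 3 • U ^ 9 + γ ^ 3 • U ^ 27) +
        (β ^ 4 - α ^ 3 * γ) • U ^ 9 + -α ^ 4 • U =
        α ^ 3 • U ^ 27 - (α ^ 3) • (α • U + β • U ^ 3 + γ • U ^ 9) := by module
    rw [e4, ← h, sub_self]
  obtain ⟨a', ha'⟩ := exists_cast ha3
  obtain ⟨b', hb'⟩ := exists_cast hb3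
  obtain ⟨c', hc'⟩ := exists_cast hc3
  refine ⟨a', b', c', ?_, by rw [ha', hb', hc']; exact hrel⟩
  intro x' hx'
  apply hE
  set x : F := x'.cast with hx
  have hx3 : x ^ 3 = x := by
    have h1 : x' ^ 3 = x' := z3_cube x'
    rw [hx, ← ZMod.castHom_apply (h := dvd_refl 3), ← map_pow, h1]
  have hroot : x ^ 3 + a * x ^ 2 + b * x + c = 0 := by
    have h1 := congrArg (ZMod.castHom (dvd_refl 3) F) hx'
    rw [map_add, map_add, map_add, map_mul, map_mul, map_pow, map_pow, map_zero, ZMod.castHom_apply, ZMod.castHom_apply,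
      ZMod.castHom_apply, ZMod.castHom_apply, ha', hb', hc'] at h1
    exact h1
  have hm9 : U ^ 9 ∈ R := pow_three_mem hcl hU 2
  have hm81 : U ^ 81 ∈ R := pow_three_mem hcl hU 4
  by_cases h0 : U ^ 81 + (a + x) • U ^ 9 + (b + x * (a + x)) • U = 0
  · refine exists_eigen h9 hi hcl hU hU0 (t := -(a + x)) (d := b + x * (a + x)) ?_ ?_ ?_
    · rw [neg_pow, add_pow_char, ha3, hx3]; ring
    · rw [add_pow_char, mul_pow, add_pow_char, ha3, hb3, hx3]
    · rw [← sub_eq_zero, ← h0]; module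
  · refine ⟨_, R.add_mem (R.add_mem hm81 (R.smul_mem _ hm9)) (R.smul_mem _ hU), h0, x, ?_⟩
    have h1 := nine_three U (1 : F) (a + x) (b + x * (a + x)) 81 9 1
    rw [one_smul, pow_one, one_pow, one_smul, h9, h9] at h1
    rw [h1, ← sub_eq_zero]
    have h2 : U ^ (9 * 81) + (a + x) • U ^ (9 * 9) + (b + x * (a + x)) • U ^ (9 * 1) -
        x • (U ^ 81 + (a + x) • U ^ 9 + (b + x * (a + x)) • U) =
        (U ^ 729 + a • U ^ 81 + b • U ^ 9 + c • U) - (x ^ 3 + a * x ^ 2 + b * x + c) • U := by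
      rw [show 9 * 81 = 729 from rfl, show 9 * 9 = 81 from rfl, show 9 * 1 = 9 from rfl]
      module
    rw [h2, hrel, hroot, zero_smul, sub_zero]

/-- **skew polynomials** -/
theorem skew [FiniteDimensional F A] (h9 : ∀ x : F, x ^ 9 = x) {i : F} (hi : i * i = -1) (hR : R ≠ ⊥)
    (hk : finrank F R ≤ 3) (hcl : ∀ B ∈ R, B ^ 3 ∈ R) (h3 : ∀ B ∈ R, ∀ a : F, B ^ 3 = a • B → B = 0) :
    (∃ U ∈ R, U ≠ 0 ∧ ∃ l : F, U ^ 9 = l • U ∧ (l ^ 2 = -1 ∨ l ^ 4 = -1)) ∨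
    (∃ U ∈ R, U ≠ 0 ∧ ∃ a b c : ZMod 3, (∀ x : ZMod 3, x ^ 3 + a * x ^ 2 + b * x + c ≠ 0) ∧
      U ^ 729 + (a.cast : F) • U ^ 81 + (b.cast : F) • U ^ 9 + (c.cast : F) • U = 0) := by
  have : Fact (Nat.Prime 3) := ⟨by norm_num⟩
  obtain ⟨U, hU, hU0⟩ := (Submodule.ne_bot_iff R).1 hR
  suffices hs : (∃ w ∈ R, w ≠ 0 ∧ ∃ l : F, w ^ 9 = l • w) ∨
      ∃ a b c : ZMod 3, (∀ x : ZMod 3, x ^ 3 + a * x ^ 2 + b * x + c ≠ 0) ∧
        U ^ 729 + (a.cast : F) • U ^ 81 + (b.cast : F) • U ^ 9 + (c.cast : F) • U = 0 by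
    rcases hs with ⟨w, hw, hw0, l, hl⟩ | hs
    · exact Or.inl ⟨w, hw, hw0, l, hl, eigen_cases h9 hi hcl h3 hw hw0 hl⟩
    · exact Or.inr ⟨U, hU, hU0, hs⟩
  let v : Fin 4 → R := fun j => ⟨U ^ 3 ^ j.val, pow_three_mem hcl hU j⟩
  have hdep : ¬ LinearIndependent F v := by
    intro hli
    have h1 := hli.fintype_card_le_finrank
    rw [Fintype.card_fin] at h1
    omega
  rw [Fintype.not_linearIndependent_iff] at hdep
  obtain ⟨g, hg, j, hj⟩ := hdep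
  have hg' : g 0 • U + g 1 • U ^ 3 + g 2 • U ^ 9 + g 3 • U ^ 27 = 0 := by
    have h1 := congrArg Subtype.val hg
    rw [Fin.sum_univ_four] at h1
    simpa [v] using h1
  by_cases c3 : g 3 = 0
  · rw [c3, zero_smul, add_zero] at hg'
    by_cases c2 : g 2 = 0
    · rw [c2, zero_smul, add_zero] at hg'
      exfalso
      by_cases c1 : g 1 = 0
      · rw [c1, zero_smul, add_zero] at hg'
        have c0 : g 0 = 0 := (smul_eq_zero.1 hg').resolve_right hU0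
        apply hj
        fin_cases j
        · exact c0
        · exact c1
        · exact c2
        · exact c3
      · apply hU0
        refine h3 U hU (-(g 1)⁻¹ * g 0) ?_
        have h1 : U ^ 3 - (-(g 1)⁻¹ * g 0) • U = (g 1)⁻¹ • (g 0 • U + g 1 • U ^ 3) := by
          rw [smul_add, smul_smul, smul_smul, inv_mul_cancel₀ c1, one_smul]
          module
        rw [← sub_eq_zero, h1, hg', smul_zero]
    · -- `U ^ 9 = α U + β U ^ 3`
      refine Or.inl ?_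
      obtain ⟨α, β, h⟩ : ∃ α β : F, U ^ 9 = α • U + β • U ^ 3 := by
        refine ⟨-(g 2)⁻¹ * g 0, -(g 2)⁻¹ * g 1, ?_⟩
        have h1 : U ^ 9 - ((-(g 2)⁻¹ * g 0) • U + (-(g 2)⁻¹ * g 1) • U ^ 3) =
            (g 2)⁻¹ • (g 0 • U + g 1 • U ^ 3 + g 2 • U ^ 9) := by
          rw [smul_add (g 2)⁻¹ _ (g 2 • U ^ 9), smul_smul _ (g 2), inv_mul_cancel₀ c2, one_smul]
          module
        rw [← sub_eq_zero, h1, hg', smul_zero]
      have e27 : U ^ 27 = α ^ 3 • U ^ 3 + β ^ 3 • U ^ 9 := by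
        have h1 := cube_two U α β 1 3
        rw [pow_one, ← h, ← pow_mul] at h1
        exact h1
      have e81 : U ^ 81 = α • U ^ 9 + β • U ^ 27 := by
        have h1 := nine_two U α β 1 3
        rw [pow_one, ← h, ← pow_mul, h9, h9] at h1
        exact h1
      have h12 : ∀ x : F, x ^ 12 = x ^ 4 := by
        intro x
        rw [show 12 = 9 + 3 from rfl, pow_add, h9, ← pow_succ']
      refine exists_eigen h9 hi hcl hU hU0 (t := α + α ^ 3 + β ^ 4) (d := α ^ 4) ?_ ?_ ?_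
      · rw [add_pow_char, add_pow_char, ← pow_mul, ← pow_mul, h9, h12]; ring
      · rw [← pow_mul, h12]
      · have h1 : (α + α ^ 3 + β ^ 4) • U ^ 9 - α ^ 4 • U - U ^ 81 = α ^ 3 • (U ^ 9 - (α • U + β • U ^ 3)) := by
          rw [e81, e27]; module
        rw [← h, sub_self, smul_zero, sub_eq_zero] at h1
        exact h1.symm
  · obtain ⟨α, β, γ, h⟩ : ∃ α β γ : F, U ^ 27 = α • U + β • U ^ 3 + γ • U ^ 9 := by
      refine ⟨-(g 3)⁻¹ * g 0, -(g 3)⁻¹ * g 1, -(g 3)⁻¹ * g 2, ?_⟩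
      have h1 : U ^ 27 - ((-(g 3)⁻¹ * g 0) • U + (-(g 3)⁻¹ * g 1) • U ^ 3 + (-(g 3)⁻¹ * g 2) • U ^ 9) =
          (g 3)⁻¹ • (g 0 • U + g 1 • U ^ 3 + g 2 • U ^ 9 + g 3 • U ^ 27) := by
        rw [smul_add (g 3)⁻¹ _ (g 3 • U ^ 27), smul_smul _ (g 3), inv_mul_cancel₀ c3, one_smul]
        module
      rw [← sub_eq_zero, h1, hg', smul_zero]
    exact skew3 h9 hi hcl hU hU0 h

end skew

end Cfsg.Agent.R2.T2.Orb
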