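import Cfsg.Agent.R2.T2.Orb.Cnt
import Cfsg.Agent.R2.T2.Orb.Dih
import Cfsg.Agent.R2.T2.Orb.Skew
import Cfsg.Agent.R2.T2.N6K.Cnt
import Cfsg.Agent.R2.T2.Alg.Ann

/-!
# S5929, orbit box: the subspace `R` for `n = 6`, `p = 3` (helper2)

If the lift `ψ` has fixed vectors on the adjoint module, there is a subspace `R ≠ 0` of the Lie algebra (as a space of
matrices of degree 56) of dimension at most 3, closed under the cube, commuting with `ψ`, without `A ≠ 0`, `A ^ 3 = a A`,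
and all kernels of `A ≠ 0` have dimension less than 32; `|F| = 9`.
-/

set_option autoImplicit false
set_option linter.unusedSectionVars false
set_option maxRecDepth 100000

namespace Cfsg.Agent.R2.T2.Orb

open Cfsg Cfsg.Lie Module Matrix
open Cfsg.Agent.R2.T1 Cfsg.Agent.R2.PX Cfsg.Agent.R2.T1.Mu Cfsg.Agent.R2.T2.Alg
open Cfsg.Agent.H943.E7V.Block (D1 rho)
open Cfsg.Agent.H952.F4 (ev es MaxAlt)
open Cfsg.Agent.H952.F4.MaxA (rmul rone rinv)

universe u

variable {F : Type u} [Field F] {H : Subgroup ↥(chevE7.group F)}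
variable {φ : ↥(alternatingGroup (Fin 6)) →* ↥(chevE7.group F)} {ψ : ↥(alternatingGroup (Fin 6)) →* Gh F}

theorem card_range (hM : MaxAlt H 6 φ) : Nat.card φ.range = 360 := by
  rw [Nat.card_congr (φ.ofInjective hM.inj).toEquiv.symm]
  have h1 := card_alt (n := 6) (by norm_num)
  have h2 : Nat.factorial 6 = 720 := rfl
  omega

theorem two_cosets (hM : MaxAlt H 6 φ) (hc : Nat.card ↥H ≤ 720) [Finite F] :
    ∃ h0 ∈ H, ∀ h ∈ H, h ∈ φ.range ∨ h0⁻¹ * h ∈ φ.range := by
  have hfin : Finite ↥H := inferInstance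
  by_cases hle : H ≤ φ.range
  · exact ⟨1, H.one_mem, fun h hh => Or.inl (hle hh)⟩
  obtain ⟨h0, hh0, hn0⟩ := SetLike.not_le_iff_exists.1 hle
  refine ⟨h0, hh0, fun h hh => ?_⟩
  by_cases hr : h ∈ φ.range
  · exact Or.inl hr
  refine Or.inr ?_
  have h1 := Subgroup.card_mul_index (φ.range.subgroupOf H)
  have h2 : Nat.card ↥(φ.range.subgroupOf H) = 360 := by
    rw [Nat.card_congr (Subgroup.subgroupOfEquivOfLe hM.le).toEquiv, card_range hM]
  rw [h2] at h1
  have h3 : (φ.range.subgroupOf H).index ≠ 1 := by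
    intro h4
    apply hle
    intro x hx
    have h5 := Subgroup.index_eq_one.1 h4
    have h6 : (⟨x, hx⟩ : ↥H) ∈ φ.range.subgroupOf H := by rw [h5]; trivial
    exact Subgroup.mem_subgroupOf.1 h6
  have h4 : (φ.range.subgroupOf H).index ≠ 0 := by
    intro h5
    rw [h5, mul_zero] at h1
    have := Nat.card_pos (α := ↥H)
    omega
  have h5 : (φ.range.subgroupOf H).index = 2 := by omega
  have h6 := Subgroup.mul_mem_iff_of_index_two h5 (a := (⟨h0, hh0⟩ : ↥H)⁻¹) (b := ⟨h, hh⟩)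
  rw [inv_mem_iff, Subgroup.mem_subgroupOf, Subgroup.mem_subgroupOf, Subgroup.mem_subgroupOf] at h6
  exact h6.2 ⟨fun h7 => absurd h7 hn0, fun h7 => absurd h7 hr⟩

theorem mem_inv_iff (hL : Lift φ ψ) {v : chevE7.Idx → F} :
    v ∈ Representation.invariants (MonoidHom.comp (L F) ψ) ↔ ∀ a ∈ φ.range, LK F a v = v := by
  constructor
  · rintro h _ ⟨a, rfl⟩
    rw [← hL a]
    exact h a
  · intro h a
    show L F (ψ a) v = v
    rw [L_eq, hL a]
    exact h _ ⟨a, rfl⟩

theorem exists_chi [Finite F] (hM : MaxAlt H 6 φ) (hL : Lift φ ψ) (hc : Nat.card ↥H ≤ 720)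
    (hne : Representation.invariants (MonoidHom.comp (L F) ψ) ≠ ⊥) : ∃ χ : ↥(chevE7.group F) → F, (∀ h, χ h ^ 3 = χ h) ∧
      (∀ a, χ (φ a) = 1) ∧ ∃ v ≠ 0, ∀ g, ad F g ∈ H → L F g v = χ (ad F g) • v := by
  classical
  obtain ⟨v, hv, hv0⟩ := (Submodule.ne_bot_iff _).1 hne
  rw [mem_inv_iff hL] at hv
  obtain ⟨h0, hh0, hcos⟩ := two_cosets hM hc
  have hw : ∀ a ∈ φ.range, LK F a (LK F h0 v) = LK F h0 v := by
    intro a ha
    have h1 := hM.norm h0⁻¹ (H.inv_mem hh0) a ha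
    rw [inv_inv] at h1
    have h3 := hv _ h1
    rw [rmul, rmul] at h3
    have h4 := congrArg (LK F h0) h3
    rw [← rmul, mul_inv_cancel, rone] at h4
    exact h4
  have hww : LK F h0 (LK F h0 v) = v := by
    rw [← rmul]
    exact hv _ (hM.sq h0 hh0)
  have key : ∀ (e : F) (u : chevE7.Idx → F), (∀ a ∈ φ.range, LK F a u = u) → LK F h0 u = e • u → ∀ g, ad F g ∈ H →
      L F g u = (if ad F g ∈ φ.range then (1 : F) else e) • u := by
    intro e u hu he g hg
    rw [L_eq]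
    by_cases hr : ad F g ∈ φ.range
    · rw [if_pos hr, one_smul, hu _ hr]
    · rw [if_neg hr]
      rcases hcos _ hg with h1 | h1
      · exact absurd h1 hr
      · have h3 : ad F g = h0 * (h0⁻¹ * ad F g) := by group
        rw [h3, rmul, hu _ h1, he]
  by_cases hp : v + LK F h0 v = 0
  · refine ⟨fun h => if h ∈ φ.range then 1 else -1, ?_, ?_, v, hv0, key (-1) v hv ?_⟩
    · intro h
      dsimp only
      split_ifs <;> ring
    · intro a
      exact if_pos ⟨a, rfl⟩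
    · rw [neg_smul, one_smul]
      exact (neg_eq_of_add_eq_zero_right hp).symm
  · refine ⟨fun h => if h ∈ φ.range then 1 else 1, ?_, ?_, v + LK F h0 v, hp, key 1 _ ?_ ?_⟩
    · intro h
      dsimp only
      split_ifs <;> ring
    · intro a
      exact if_pos ⟨a, rfl⟩
    · intro a ha
      rw [map_add, hv a ha, hw a ha]
    · rw [map_add, hww, one_smul, add_comm]

/-- the eigenvectors -/
noncomputable def RX (H : Subgroup ↥(chevE7.group F)) (χ : ↥(chevE7.group F) → F) : Submodule F (chevE7.Idx → F) where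
  carrier := {v | ∀ g, ad F g ∈ H → L F g v = χ (ad F g) • v}
  zero_mem' := fun g _ => by rw [map_zero, smul_zero]
  add_mem' := fun {a b} ha hb g hg => by rw [map_add, ha g hg, hb g hg, smul_add]
  smul_mem' := fun c a ha g hg => by rw [map_smul, ha g hg, smul_comm]

theorem mem_RX {χ : ↥(chevE7.group F) → F} {v : chevE7.Idx → F} : v ∈ RX H χ ↔ ∀ g, ad F g ∈ H → L F g v = χ (ad F g) • v :=
  Iff.rfl

theorem conj_pow3 (g : Gh F) (A : Matrix D1 D1 F) : (rho F g * A * rho F g⁻¹) * (rho F g * A * rho F g⁻¹) *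
    (rho F g * A * rho F g⁻¹) = rho F g * (A * A * A) * rho F g⁻¹ := by
  have h := rho_inv_mul'' g
  calc _ = rho F g * A * (rho F g⁻¹ * rho F g) * A * (rho F g⁻¹ * rho F g) * A * rho F g⁻¹ := by
        simp only [Matrix.mul_assoc]
    _ = _ := by rw [h]; simp only [Matrix.mul_assoc, Matrix.mul_one]

/-- closed under the cube -/
theorem RX_cube (h3 : (3 : F) = 0) {χ : ↥(chevE7.group F) → F} (hχ : ∀ h, χ h ^ 3 = χ h) {v : chevE7.Idx → F}
    (hv : v ∈ RX H χ) : ∃ w ∈ RX H χ, del F w = del F v * del F v * del F v := by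
  obtain ⟨w, hw⟩ := exists_cube h3 v
  refine ⟨w, fun g hg => ?_, hw⟩
  apply Mu.del_injective
  rw [del_L', hw, ← conj_pow3, ← del_L', hv g hg, map_smul, map_smul, hw]
  simp only [Matrix.smul_mul, Matrix.mul_smul, smul_smul]
  rw [← pow_two, ← pow_succ', hχ]

/-- commutes with `ψ` -/
theorem RX_comm {χ : ↥(chevE7.group F) → F} (hM : MaxAlt H 6 φ) (hL : Lift φ ψ) (hχ : ∀ a, χ (φ a) = 1)
    {v : chevE7.Idx → F} (hv : v ∈ RX H χ) (x : ↥(alternatingGroup (Fin 6))) :
    rho F (ψ x) * del F v = del F v * rho F (ψ x) := by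
  have h1 : ad F (ψ x) ∈ H := by rw [hL x]; exact hM.le ⟨x, rfl⟩
  have h2 := hv _ h1
  rw [hL x, hχ, one_smul] at h2
  have h3 := del_L' (ψ x) v
  rw [h2] at h3
  calc rho F (ψ x) * del F v = rho F (ψ x) * del F v * (rho F (ψ x)⁻¹ * rho F (ψ x)) := by
        rw [rho_inv_mul'', Matrix.mul_one]
    _ = (rho F (ψ x) * del F v * rho F (ψ x)⁻¹) * rho F (ψ x) := by simp only [Matrix.mul_assoc]
    _ = _ := by rw [← h3]

section count

variable [Finite F]

theorem nine_pow {n k : ℕ} {q : ℕ} (hq : 9 ≤ q) (h : n = k + 4) : 6561 * q ^ k ≤ q ^ n := by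
  subst h
  rw [pow_add, mul_comm]
  exact Nat.mul_le_mul_left _ (by calc 6561 = 9 ^ 4 := by norm_num
    _ ≤ q ^ 4 := Nat.pow_le_pow_left hq 4)

/-- a vector of `R` does not satisfy `A ^ 3 = a A` -/
theorem no_cube (h2 : (2 : F) ≠ 0) (hM : MaxAlt H 6 φ) (hc : Nat.card ↥H ≤ 720) (hq : 9 ≤ Nat.card F)
    {χ : ↥(chevE7.group F) → F} {v : chevE7.Idx → F} (hv : v ∈ RX H χ) {a : F}
    (h : del F v * del F v * del F v = a • del F v) : v = 0 := by
  by_contra hv0
  have hH : H ≠ ⊥ := by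
    rintro rfl
    have h1 := card_range hM
    have h4 : Nat.card φ.range ≤ 1 := by
      have h5 := hM.le
      rw [le_bot_iff] at h5
      rw [h5, Subgroup.card_bot]
    omega
  have hdim : 1 < finrank F (chevE7.Idx → F) := by rw [finrank_L]; norm_num
  have hk := count_orb hM.coatom hH (irrL h2) hdim {v}
    {z : chevE7.Idx → F | del F z * del F z * del F z = a • del F z} (by
      rintro w rfl
      exact ⟨hv0, fun g hg => ⟨_, hv g hg⟩⟩) (by
      rintro w rfl g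
      show del F (L F g w) * del F (L F g w) * del F (L F g w) = a • del F (L F g w)
      rw [del_L', conj_pow3, h, Matrix.mul_smul, Matrix.smul_mul])
  rw [Nat.card_unique, one_mul] at hk
  have hcc := N6K.card_cube h2 a
  have ho := order_ge5 (F := F) (by omega)
  set q := Nat.card F with hqd
  have e1 : 6561 * q ^ 129 ≤ q ^ 133 := nine_pow hq rfl
  have e2 : 6561 * q ^ 125 ≤ q ^ 129 := nine_pow hq rfl
  have e3 : 9 * q ^ 124 ≤ q ^ 125 := by rw [pow_succ q 124, mul_comm]; exact Nat.mul_le_mul_left _ hq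
  have e4 : q ^ 123 ≤ q ^ 124 := Nat.pow_le_pow_right (by omega) (by norm_num)
  have e5 : q ^ 106 ≤ q ^ 124 := Nat.pow_le_pow_right (by omega) (by norm_num)
  have e6 : 0 < q ^ 124 := Nat.pow_pos (by omega)
  have hk' : Nat.card ↥(chevE7.group F) ≤ 720 * (27 * q ^ 124 + 27 * q ^ 123 + q ^ 106) :=
    hk.trans (Nat.mul_le_mul hc hcc)
  omega

/-- the kernels are small -/
theorem small_ker (h2 : (2 : F) ≠ 0) (hM : MaxAlt H 6 φ) (hc : Nat.card ↥H ≤ 720) (hq : 9 ≤ Nat.card F)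
    {χ : ↥(chevE7.group F) → F} {v : chevE7.Idx → F} (hv : v ∈ RX H χ) (hv0 : v ≠ 0) :
    finrank F (LinearMap.ker (Matrix.toLin' (del F v))) < 32 := by
  by_contra hlt
  have hH : H ≠ ⊥ := by
    rintro rfl
    have h1 := card_range hM
    have h4 : Nat.card φ.range ≤ 1 := by
      have h5 := hM.le
      rw [le_bot_iff] at h5
      rw [h5, Subgroup.card_bot]
    omega
  have hdim : 1 < finrank F (chevE7.Idx → F) := by rw [finrank_L]; norm_num
  have hk := count_orb hM.coatom hH (irrL h2) hdim {v}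
    {z : chevE7.Idx → F | 32 ≤ finrank F (LinearMap.ker (Matrix.toLin' (del F z)))} (by
      rintro w rfl
      exact ⟨hv0, fun g hg => ⟨_, hv g hg⟩⟩) (by
      rintro w rfl g
      show 32 ≤ finrank F (LinearMap.ker (Matrix.toLin' (del F (L F g w))))
      refine le_trans (not_lt.1 hlt) ?_
      refine fr_le (f := V F g) ?_ ?_
      · intro x hx
        rw [LinearMap.mem_ker, Matrix.toLin'_apply] at hx ⊢
        rw [del_L', V_apply, Matrix.mulVec_mulVec, Matrix.mul_assoc, rho_inv_mul'', Matrix.mul_one, ← Matrix.mulVec_mulVec,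
          hx, Matrix.mulVec_zero]
      · intro x _ hx
        rw [← V_inv g x, hx, map_zero])
  rw [Nat.card_unique, one_mul] at hk
  have hcc := card_ker (F := F)
  have ho := order_ge5 (F := F) (by omega)
  set q := Nat.card F with hqd
  have e1 : 6561 * q ^ 161 ≤ q ^ 165 := nine_pow hq rfl
  have e4 : 6561 * q ^ 157 ≤ q ^ 161 := nine_pow hq rfl
  have e5 : q ^ 133 ≤ q ^ 157 := Nat.pow_le_pow_right (by omega) (by norm_num)
  have e6 : 0 < q ^ 161 := Nat.pow_pos (by omega)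
  have hk2 : Nat.card ↥(chevE7.group F) * q ^ 32 ≤ 720 * (q ^ 133 + q ^ 161) := by
    calc Nat.card ↥(chevE7.group F) * q ^ 32 ≤ (Nat.card ↥H *
          Nat.card {z : chevE7.Idx → F // 32 ≤ finrank F (LinearMap.ker (Matrix.toLin' (del F z)))}) * q ^ 32 :=
          Nat.mul_le_mul_right _ hk
      _ = Nat.card ↥H * (Nat.card {z : chevE7.Idx → F // 32 ≤ finrank F (LinearMap.ker (Matrix.toLin' (del F z)))} *
          q ^ 32) := by ring
      _ ≤ _ := Nat.mul_le_mul hc hcc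
  have hk3 : 479 * q ^ 165 ≤ 1000 * (Nat.card ↥(chevE7.group F) * q ^ 32) := by
    calc 479 * q ^ 165 = 479 * q ^ 133 * q ^ 32 := by rw [show 165 = 133 + 32 from rfl, pow_add]; ring
      _ ≤ 1000 * Nat.card ↥(chevE7.group F) * q ^ 32 := Nat.mul_le_mul_right _ ho
      _ = _ := by ring
  omega

/-- `q ^ k ≤ 1504` -/
theorem few_RX (h2 : (2 : F) ≠ 0) (hM : MaxAlt H 6 φ) (hc : Nat.card ↥H ≤ 720) (hq : 9 ≤ Nat.card F)
    (χ : ↥(chevE7.group F) → F) : Nat.card F ^ finrank F ↥(RX H χ) ≤ 1504 := by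
  have hH : H ≠ ⊥ := by
    rintro rfl
    have h1 := card_range hM
    have h4 : Nat.card φ.range ≤ 1 := by
      have h5 := hM.le
      rw [le_bot_iff] at h5
      rw [h5, Subgroup.card_bot]
    omega
  have hdim : 1 < finrank F (chevE7.Idx → F) := by rw [finrank_L]; norm_num
  have hk := count_orb hM.coatom hH (irrL h2) hdim ((RX H χ : Set (chevE7.Idx → F)) \ {0}) Set.univ (by
      rintro w ⟨hw, hw0⟩
      exact ⟨hw0, fun g hg => ⟨_, hw g hg⟩⟩) (by
      intro w _ g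
      trivial)
  have hS : Nat.card ↥((RX H χ : Set (chevE7.Idx → F)) \ {0}) = Nat.card F ^ finrank F ↥(RX H χ) - 1 := by
    rw [Nat.card_coe_set_eq, Set.ncard_sdiff_singleton_of_mem (RX H χ).zero_mem, ← Nat.card_coe_set_eq]
    congr 1
    exact Module.natCard_eq_pow_finrank (K := F) (V := ↥(RX H χ))
  have hU : Nat.card (Set.univ : Set (chevE7.Idx → F)) = Nat.card F ^ 133 := by
    rw [Nat.card_congr (Equiv.Set.univ _), Module.natCard_eq_pow_finrank (K := F), finrank_L]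
  rw [hS, hU] at hk
  have ho := order_ge5 (F := F) (by omega)
  set q := Nat.card F with hqd
  set k := finrank F ↥(RX H χ) with hkd
  have hk1 : Nat.card ↥H * q ^ 133 ≤ 720 * q ^ 133 := Nat.mul_le_mul_right _ hc
  have e6 : 0 < q ^ 133 := Nat.pow_pos (by omega)
  have hk2 : ((q ^ k - 1) * 479) * q ^ 133 ≤ 720000 * q ^ 133 := by
    calc ((q ^ k - 1) * 479) * q ^ 133 = (q ^ k - 1) * (479 * q ^ 133) := by ring
      _ ≤ (q ^ k - 1) * (1000 * Nat.card ↥(chevE7.group F)) := Nat.mul_le_mul_left _ ho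
      _ = 1000 * ((q ^ k - 1) * Nat.card ↥(chevE7.group F)) := by ring
      _ ≤ 1000 * (720 * q ^ 133) := Nat.mul_le_mul_left _ (hk.trans hk1)
      _ = _ := by ring
  have hk3 := Nat.le_of_mul_le_mul_right hk2 e6
  omega

end count

/-- the cardinality of `F` -/
theorem card_cases [Finite F] (h3 : (3 : F) = 0) {i : F} (hi : i * i = -1) :
    Nat.card F = 9 ∨ 81 ≤ Nat.card F := by
  have : Fintype F := Fintype.ofFinite F
  have hp : CharP F 3 := by
    obtain ⟨p, hp⟩ := CharP.exists F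
    have h1 : ((3 : ℕ) : F) = 0 := by exact_mod_cast h3
    have h2 := (CharP.cast_eq_zero_iff F p 3).1 h1
    rcases (Nat.dvd_prime Nat.prime_three).1 h2 with rfl | rfl
    · exact absurd (CharP.cast_eq_zero F 1) (by rw [Nat.cast_one]; exact one_ne_zero)
    · exact hp
  have : Fact (Nat.Prime 3) := ⟨by norm_num⟩
  obtain ⟨n, hn, hcard⟩ := FiniteField.card F 3
  rw [Nat.card_eq_fintype_card]
  have h4 : Fintype.card F % 4 ≠ 3 := FiniteField.isSquare_neg_one_iff.1 ⟨i, hi.symm⟩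
  rw [hcard] at h4 ⊢
  have h5 : (n : ℕ) ≠ 1 := by intro h; rw [h] at h4; norm_num at h4
  have h6 : (n : ℕ) ≠ 3 := by intro h; rw [h] at h4; norm_num at h4
  have h7 := n.pos
  by_cases h8 : (n : ℕ) = 2
  · left; rw [h8]; norm_num
  · right
    calc 81 = 3 ^ 4 := by norm_num
      _ ≤ 3 ^ (n : ℕ) := Nat.pow_le_pow_right (by norm_num) (by omega)

theorem charP_three (h3 : (3 : F) = 0) : CharP F 3 := by
  obtain ⟨p, hp⟩ := CharP.exists F
  have h1 : ((3 : ℕ) : F) = 0 := by exact_mod_cast h3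
  have h2 := (CharP.cast_eq_zero_iff F p 3).1 h1
  rcases (Nat.dvd_prime Nat.prime_three).1 h2 with rfl | rfl
  · exact absurd (CharP.cast_eq_zero F 1) (by rw [Nat.cast_one]; exact one_ne_zero)
  · exact hp

theorem pow_three_eq (A : Matrix D1 D1 F) : A ^ 3 = A * A * A := by rw [pow_succ, pow_two]

/-- **the element `U`** -/
theorem exists_U [Finite F] (hM : MaxAlt H 6 φ) (hL : Lift φ ψ) (h3 : (3 : F) = 0) (hc : Nat.card ↥H ≤ 720)
    (hq : 9 ≤ Nat.card F) {i : F} (hi : i * i = -1)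
    (hne : Representation.invariants (MonoidHom.comp (L F) ψ) ≠ ⊥) :
    Nat.card F = 9 ∧ ∃ U : Matrix D1 D1 F, U ∈ LR F ∧ U ^ 3 ∈ LR F ∧
      (∀ x, rho F (ψ x) * U = U * rho F (ψ x)) ∧ finrank F (LinearMap.ker (Matrix.toLin' U)) < 32 ∧
      ((∃ l : F, U ^ 9 = l • U ∧ (l ^ 2 = -1 ∨ l ^ 4 = -1)) ∨
      (∃ a b c : ZMod 3, (∀ x : ZMod 3, x ^ 3 + a * x ^ 2 + b * x + c ≠ 0) ∧
        U ^ 729 + (a.cast : F) • U ^ 81 + (b.cast : F) • U ^ 9 + (c.cast : F) • U = 0)) := by
  have hCh : CharP F 3 := charP_three h3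
  have h2 : (2 : F) ≠ 0 := by
    intro h2
    apply one_ne_zero (α := F)
    linear_combination h3 - h2
  have hD1 : Nonempty D1 := ⟨topv⟩
  have hCA : CharP (Matrix D1 D1 F) 3 := Matrix.charP 3
  have : Fintype F := Fintype.ofFinite F
  obtain ⟨χ, hχ, hχ1, v, hv0, hv⟩ := exists_chi hM hL hc hne
  have hfew := few_RX h2 hM hc hq χ
  have hvR : v ∈ RX H χ := hv
  set R : Submodule F (Matrix D1 D1 F) := (RX H χ).map (del F) with hR
  have hmem : ∀ A, A ∈ R ↔ ∃ z ∈ RX H χ, del F z = A := fun A => Submodule.mem_map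
  have hR0 : R ≠ ⊥ := by
    rw [Submodule.ne_bot_iff]
    refine ⟨del F v, (hmem _).2 ⟨v, hvR, rfl⟩, ?_⟩
    intro h
    exact hv0 (Mu.del_inj h)
  have hfr : finrank F R = finrank F ↥(RX H χ) := (Submodule.equivMapOfInjective (del F) Mu.del_injective _).finrank_eq.symm
  have hcl : ∀ B ∈ R, B ^ 3 ∈ R := by
    intro B hB
    obtain ⟨z, hz, rfl⟩ := (hmem _).1 hB
    obtain ⟨w, hw, hw'⟩ := RX_cube h3 hχ hz
    rw [pow_three_eq, ← hw']
    exact (hmem _).2 ⟨w, hw, rfl⟩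
  have hn3 : ∀ B ∈ R, ∀ a : F, B ^ 3 = a • B → B = 0 := by
    intro B hB a h
    obtain ⟨z, hz, rfl⟩ := (hmem _).1 hB
    rw [pow_three_eq] at h
    rw [no_cube h2 hM hc hq hz h, map_zero]
  have hBR : del F v ∈ R := (hmem _).2 ⟨v, hvR, rfl⟩
  have hB0 : del F v ≠ 0 := fun h => hv0 (Mu.del_inj h)
  have hprop : ∀ U ∈ R, U ≠ 0 → U ∈ LR F ∧ U ^ 3 ∈ LR F ∧
      (∀ x, rho F (ψ x) * U = U * rho F (ψ x)) ∧ finrank F (LinearMap.ker (Matrix.toLin' U)) < 32 := by
    intro U hU hU0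
    obtain ⟨z, hz, rfl⟩ := (hmem _).1 hU
    refine ⟨del_mem z, ?_, RX_comm hM hL hχ1 hz, small_ker h2 hM hc hq hz ?_⟩
    · rw [pow_three_eq]
      exact cube_mem h3 (del_mem z)
    · rintro rfl
      exact hU0 (map_zero _)
  rcases card_cases h3 hi with h9 | h81
  · refine ⟨h9, ?_⟩
    rw [h9] at hfew
    have hk : finrank F R ≤ 3 := by
      rw [hfr]
      by_contra hk
      have h4 : 9 ^ 4 ≤ 9 ^ finrank F ↥(RX H χ) := Nat.pow_le_pow_right (by norm_num) (by omega)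
      norm_num at h4
      omega
    have hx9 : ∀ x : F, x ^ 9 = x := by
      intro x
      have h5 := FiniteField.pow_card x
      rwa [← Nat.card_eq_fintype_card, h9] at h5
    rcases skew hx9 hi hR0 hk hcl hn3 with ⟨U, hU, hU0, hl⟩ | ⟨U, hU, hU0, hl⟩
    · obtain ⟨p1, p2, p3, p4⟩ := hprop U hU hU0
      exact ⟨U, p1, p2, p3, p4, Or.inl hl⟩
    · obtain ⟨p1, p2, p3, p4⟩ := hprop U hU hU0
      exact ⟨U, p1, p2, p3, p4, Or.inr hl⟩
  · exfalso
    have hk : finrank F R ≤ 1 := by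
      rw [hfr]
      by_contra hk
      have h4 : 81 ^ 2 ≤ Nat.card F ^ finrank F ↥(RX H χ) :=
        (Nat.pow_le_pow_left h81 2).trans (Nat.pow_le_pow_right (by omega) (by omega))
      have h5 := h4.trans hfew
      norm_num at h5
    have hk1 : finrank F R = 1 := by
      have h4 : finrank F R ≠ 0 := fun h => hR0 (Submodule.finrank_eq_zero.1 h)
      omega
    have hne1 : (⟨del F v, hBR⟩ : R) ≠ 0 := fun h => hB0 (congrArg Subtype.val h)
    obtain ⟨c, hc1⟩ := (finrank_eq_one_iff_of_nonzero' _ hne1).1 hk1 ⟨del F v ^ 3, hcl _ hBR⟩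
    exact hB0 (hn3 _ hBR c (congrArg Subtype.val hc1).symm)

end Cfsg.Agent.R2.T2.Orb
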